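/-
The radical of a vector stabiliser in a symplectic group of characteristic two: the elements `el a v c`.
-/
import Cfsg.Agent.Lib.MaxCl.Symplectic
import Cfsg.Agent.Lib.PCore.Basic

set_option autoImplicit false

namespace Cfsg.Agent.SympOver

open scoped MatrixGroups Matrix
open Cfsg.Agent.MaxCl

variable {ι : Type} [Fintype ι] [DecidableEq ι] {F : Type*} [Field F] [CharP F 2]
variable {f : (ι → F) → (ι → F) → F} (hf : Cfsg.Geo.IsSymplecticForm f)

include hf

theorem f_comm (x y : ι → F) : f x y = f y x := by rw [f_skew hf, CharTwo.neg_eq]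

omit hf [CharP F 2] in
/-- the element `x ↦ x + f(x, v) a + f(x, a) v + c f(x, a) a` (for `f(a, v) = 0`) -/
noncomputable def el (hf : Cfsg.Geo.IsSymplecticForm f) (a v : ι → F) (c : F) : GL ι F :=
  stv hf (a + v) 1 * stv hf a (1 + c) * stv hf v 1

theorem act_el {a v : ι → F} (h : f a v = 0) (c : F) (x : ι → F) :
    act (el hf a v c) x = x + f x v • a + f x a • v + (c * f x a) • a := by
  have h' : f v a = 0 := f_eq_zero_symm hf h
  have h2 := CharTwo.two_eq_zero (R := F)
  simp only [el, act_mul, act_stv hf, f_add_left hf, f_add_right hf, f_smul_left hf, f_self hf, h, h']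
  match_scalars <;> ring_nf <;> simp [h2]

omit [CharP F 2] in
theorem el_mem (a v : ι → F) (c : F) : el hf a v c ∈ isoGroup f :=
  mul_mem (mul_mem (stv_mem hf _ _) (stv_mem hf _ _)) (stv_mem hf _ _)

omit [CharP F 2] in
theorem conj_el {g : GL ι F} (hg : g ∈ isoGroup f) (a v : ι → F) (c : F) :
    g * el hf a v c * g⁻¹ = el hf (act g a) (act g v) c := by
  simp only [el, ← map_add, ← conj_stv hf hg]
  group

theorem el_mul {a v w : ι → F} (hv : f a v = 0) (hw : f a w = 0) (c d : F) :
    el hf a v c * el hf a w d = el hf a (v + w) (c + d + f v w) := by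
  have hvw : f a (v + w) = 0 := by rw [f_add_right hf, hv, hw, add_zero]
  apply gl_ext; intro x
  simp only [act_mul, act_el hf hw, act_el hf hv, act_el hf hvw, f_add_left hf, f_smul_left hf,
    f_add_right hf, f_self hf, hv, f_eq_zero_symm hf hw, f_comm hf w v]
  module

theorem el_zero (a : ι → F) (c : F) : el hf a 0 c = stv hf a c := by
  apply gl_ext; intro x
  rw [act_el hf (f_zero_right hf a), act_stv hf, f_zero_right hf]
  module

theorem el_zero_zero (a : ι → F) : el hf a 0 0 = 1 := by rw [el_zero hf, stv_zero hf]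

theorem el_add_smul {a v : ι → F} (hv : f a v = 0) (t c : F) : el hf a (v + t • a) c = el hf a v c := by
  have hvt : f a (v + t • a) = 0 := by rw [f_add_right hf, f_smul_right hf, hv, f_self hf]; ring
  apply gl_ext; intro x
  rw [act_el hf hvt, act_el hf hv, f_add_right hf, f_smul_right hf]
  match_scalars <;> ring_nf <;> simp [CharTwo.two_eq_zero]

theorem el_smul {a v : ι → F} (hv : f a v = 0) (l c : F) :
    el hf (l • a) v c = el hf a (l • v) (l ^ 2 * c) := by
  apply gl_ext; intro x
  rw [act_el hf (by rw [f_smul_left hf, hv, mul_zero]), act_el hf (by rw [f_smul_right hf, hv, mul_zero]),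
    f_smul_right hf, f_smul_right hf]
  module

theorem el_eq_one {a v : ι → F} (ha : a ≠ 0) (hv : f a v = 0) {c : F} (h : el hf a v c = 1) :
    c = 0 ∧ ∃ t : F, v = t • a := by
  obtain ⟨x, hxa⟩ := (hf.nondegenerate a ha).1
  have hx : ∀ x, f x v • a + f x a • v + (c * f x a) • a = 0 := fun x => by
    have := congrArg (fun g => act g x) h
    simp only [act_el hf hv, act_one] at this
    rwa [add_assoc, add_assoc, add_eq_left, ← add_assoc] at this
  set t : F := -((f x v + c * f x a) / f x a) with ht
  have e : v = t • a := by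
    have := hx x
    apply smul_right_injective _ hxa
    simp only [smul_smul, ht]
    rw [show f x a * -((f x v + c * f x a) / f x a) = -(f x v + c * f x a) by field_simp]
    linear_combination (norm := module) this
  refine ⟨?_, t, e⟩
  have := hx x
  rw [e, f_smul_right hf, smul_smul] at this
  have h2 : (c * f x a) • a = 0 := by
    have h3 : (2 * (t * f x a)) • a = 0 := by rw [CharTwo.two_eq_zero, zero_mul, zero_smul]
    linear_combination (norm := module) this - h3
  simpa [ha, hxa] using h2

omit hf [CharP F 2] in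
/-- dual vector -/
theorem exists_dual_vec (hf : Cfsg.Geo.IsSymplecticForm f) {a : ι → F} (ha : a ≠ 0) : ∃ e, f e a = 1 := by
  obtain ⟨z, h1, -⟩ := exists_f_ne_two hf ha ha
  exact ⟨(f z a)⁻¹ • z, by rw [f_smul_left hf, inv_mul_cancel₀ h1]⟩

theorem eq_el_of_act {a : ι → F} (ha : a ≠ 0) {g : GL ι F} (hg : g ∈ isoGroup f) (hga : act g a = a)
    (h : ∀ x, f a x = 0 → ∃ s : F, act g x = x + s • a) :
    ∃ v c, f a v = 0 ∧ g = el hf a v c := by
  obtain ⟨e, he⟩ := exists_dual_vec hf ha
  set v := act g e + e with hv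
  have hiso := mem_isoGroup.1 hg
  have hge : f (act g e) a = 1 := by rw [← he]; conv_lhs => rw [← hga]; rw [hiso]
  have hav : f a v = 0 := by
    rw [hv, f_add_right hf, f_comm hf a, f_comm hf a, hge, he, CharTwo.add_self_eq_zero]
  refine ⟨v, f e v, hav, ?_⟩
  apply gl_ext; intro x
  set y := x + f x a • e with hy
  have hay : f a y = 0 := by
    rw [hy, f_add_right hf, f_smul_right hf, f_comm hf a e, he, f_comm hf a x, mul_one, CharTwo.add_self_eq_zero]
  obtain ⟨s, hs⟩ := h y hay
  have hs' : s = f y v := by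
    have h1 := hiso y e
    have he' : act g e = v + e := by rw [hv, add_assoc, ← two_smul F, CharTwo.two_eq_zero, zero_smul, add_zero]
    rw [hs, he'] at h1
    simp only [f_add_left hf, f_add_right hf, f_smul_left hf, hav, f_comm hf a e, he] at h1
    linear_combination h1 - f y v * CharTwo.two_eq_zero (R := F)
  have hx : x = y + f x a • e := by
    rw [hy, add_assoc, ← two_smul F, CharTwo.two_eq_zero, zero_smul, add_zero]
  have he' : act g e = v + e := by rw [hv, add_assoc, ← two_smul F, CharTwo.two_eq_zero, zero_smul, add_zero]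
  conv_lhs => rw [hx, map_add, map_smul, hs, he', hs']
  have hxy : f x v = f y v + f x a * f e v := by rw [hx, f_add_left hf, f_smul_left hf, ← hx]
  rw [act_el hf hav, hxy]
  conv_rhs => arg 1; arg 1; arg 1; rw [hx]
  match_scalars <;> ring_nf <;> simp [CharTwo.two_eq_zero]

omit [CharP F 2] in
/-- an element of rank one -/
theorem rank_stv_sub_one {a : ι → F} (ha : a ≠ 0) {c : F} (hc : c ≠ 0) :
    ((stv hf a c : Matrix ι ι F) - 1).rank = 1 := by
  have key : ∀ x, ((stv hf a c : Matrix ι ι F) - 1).mulVecLin x = (c * f x a) • a := fun x => by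
    rw [Matrix.mulVecLin_apply, Matrix.sub_mulVec, Matrix.one_mulVec, ← act_apply, act_stv hf, add_sub_cancel_left]
  have hr : LinearMap.range ((stv hf a c : Matrix ι ι F) - 1).mulVecLin = F ∙ a := by
    apply le_antisymm
    · rintro _ ⟨x, rfl⟩
      rw [key]
      exact Submodule.smul_mem _ _ (Submodule.mem_span_singleton_self a)
    · rw [Submodule.span_singleton_le_iff_mem]
      obtain ⟨e, he⟩ := exists_dual_vec hf ha
      exact ⟨c⁻¹ • e, by rw [key, f_smul_left hf, he, mul_one, mul_inv_cancel₀ hc, one_smul]⟩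
  rw [Matrix.rank, hr, finrank_span_singleton ha]

omit hf [CharP F 2] in
/-- the stabiliser of `a` in the isometry group -/
def pointStab (f : (ι → F) → (ι → F) → F) (a : ι → F) : Subgroup (GL ι F) where
  carrier := {g | g ∈ isoGroup f ∧ act g a = a}
  mul_mem' := fun h h' => ⟨mul_mem h.1 h'.1, by rw [act_mul, h'.2, h.2]⟩
  one_mem' := ⟨one_mem _, act_one a⟩
  inv_mem' := fun {g} h => ⟨inv_mem h.1, by
    conv_lhs => rw [← h.2]
    exact act_inv_act g a⟩

theorem orth_of_two_power {x y : ι → F} (hxy : ∃ k : ℕ, (stv hf x 1 * stv hf y 1) ^ 2 ^ k = 1) :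
    f x y = 0 := by
  obtain ⟨k, hk⟩ := hxy
  by_contra hβ
  set β := f x y with hβdef
  set g := stv hf x 1 * stv hf y 1 with hg
  have hyx : f y x = β := by rw [f_comm hf, ← hβdef]
  obtain ⟨M, hM⟩ : ∃ M : Module.End F (ι → F), M = act g := ⟨act g, rfl⟩
  have hadd : ∀ A : Module.End F (ι → F), A + A = 0 := fun A => by
    apply LinearMap.ext; intro z
    rw [LinearMap.add_apply, ← two_smul F, CharTwo.two_eq_zero, zero_smul, LinearMap.zero_apply]
  have hfrob : ∀ m : ℕ, (M + 1) ^ 2 ^ m = M ^ 2 ^ m + 1 := by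
    intro m
    induction m with
    | zero => simp
    | succ m ih =>
      rw [pow_succ, pow_mul, ih, pow_two, add_mul, mul_add, mul_add, one_mul, mul_one, one_mul, pow_mul,
        pow_two, add_assoc, ← add_assoc (M ^ 2 ^ m) (M ^ 2 ^ m), hadd, zero_add]
  have hgM : ∀ (m : ℕ) (z : ι → F), act (g ^ m) z = (M ^ m) z := by
    intro m
    induction m with
    | zero => intro z; rw [pow_zero, act_one, pow_zero, Module.End.one_apply]
    | succ m ih => intro z; rw [pow_succ, act_mul, ih, pow_succ, Module.End.mul_apply, hM]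
  have hMx : M x = (1 + β * β) • x + β • y := by
    rw [hM, hg, act_mul, act_stv hf, act_stv hf, f_add_left hf, f_smul_left hf, f_self hf, ← hβdef, hyx]
    module
  have hMy : M y = y + β • x := by
    rw [hM, hg, act_mul, act_stv hf, act_stv hf, f_self hf]
    simp only [mul_zero, zero_smul, add_zero, hyx, one_mul]
  have hsq : ((M + 1) ^ 2 : Module.End F (ι → F)) x = (β * β) • M x := by
    rw [pow_two, Module.End.mul_apply, LinearMap.add_apply, LinearMap.add_apply, Module.End.one_apply,
      Module.End.one_apply, map_add, hMx, map_add, map_smul, map_smul, hMx, hMy]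
    have h2 := CharTwo.two_eq_zero (R := F)
    have h4 : (4 : F) = 0 := by linear_combination (2 : F) * h2
    have h5 : (5 : F) = 1 := by linear_combination (2 : F) * h2
    match_scalars <;> ring_nf <;> simp [h2, h4, h5]
  have hcomm : Commute (M + 1) M := (Commute.refl M).add_left (Commute.one_left M)
  have hpow : ∀ j : ℕ, ((M + 1) ^ (2 * j) : Module.End F (ι → F)) x = ((β * β) ^ j) • (M ^ j) x := by
    intro j
    induction j with
    | zero => simp
    | succ j ih =>
      rw [mul_add, mul_one, pow_add ((M + 1)) (2 * j) 2, ← (Commute.pow_pow_self (M + 1) 2 (2 * j)).eq,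
        Module.End.mul_apply, ih, map_smul, ← Module.End.mul_apply, (hcomm.pow_pow 2 j).eq,
        Module.End.mul_apply, hsq, map_smul, smul_smul, ← Module.End.mul_apply, ← pow_succ, ← pow_succ]
  have hx : x ≠ 0 := fun h => hβ (by rw [hβdef, h, f_zero_left hf])
  have hzero : (M + 1) ^ 2 ^ k = 0 := by
    rw [hfrob]
    apply LinearMap.ext; intro z
    rw [LinearMap.add_apply, ← hgM, hk, act_one, Module.End.one_apply, ← two_smul F, CharTwo.two_eq_zero, zero_smul,
      LinearMap.zero_apply]
  have h1 := hpow (2 ^ k)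
  rw [two_mul, pow_add, hzero, ← hgM, hk, act_one, zero_mul, LinearMap.zero_apply] at h1
  exact smul_ne_zero (pow_ne_zero _ (mul_ne_zero hβ hβ)) hx h1.symm

/-- a normal 2-subgroup of the stabiliser of `a` consists of elements `el a v c` -/
theorem exists_el_of_mem_pCore [Finite F] {a : ι → F} (ha : a ≠ 0) {g : GL ι F}
    (hg : g ∈ (Cfsg.pCore 2 ↥(pointStab f a)).map (pointStab f a).subtype) :
    ∃ v c, f a v = 0 ∧ g = el hf a v c := by
  obtain ⟨⟨g, hgH⟩, hgO, rfl⟩ := hg
  simp only [Subgroup.coe_subtype]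
  set O := Cfsg.pCore 2 ↥(pointStab f a) with hOdef
  have hOn : O.Normal := Cfsg.Agent.PCore.pCore_normal
  have hO2 : IsPGroup 2 ↥O := Cfsg.Agent.PCore.isPGroup_pCore
  have hstv : ∀ u, f a u = 0 → stv hf u 1 ∈ pointStab f a := fun u hu =>
    ⟨stv_mem hf _ _, by rw [act_stv hf, hu]; simp⟩
  -- elements of the core send `u` to an orthogonal vector
  have horth : ∀ k : ↥(pointStab f a), k ∈ O → ∀ u, f a u = 0 → f (act (k : GL ι F) u) u = 0 := by
    intro k hk u hu
    let t : ↥(pointStab f a) := ⟨stv hf u 1, hstv u hu⟩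
    have hmem : k * t * k⁻¹ * t⁻¹ ∈ O := by
      have := hOn.conj_mem k⁻¹ (O.inv_mem hk) t
      have h3 : k * t * k⁻¹ * t⁻¹ = k * (t * k⁻¹ * t⁻¹) := by group
      rw [h3]; exact O.mul_mem hk this
    obtain ⟨j, hj⟩ := hO2 ⟨_, hmem⟩
    have hj' := congrArg (fun q : ↥O => ((q : ↥(pointStab f a)) : GL ι F)) hj
    simp only [Subgroup.coe_pow, Subgroup.coe_mul, Subgroup.coe_inv, Subgroup.coe_one, t] at hj'
    rw [conj_stv hf k.2.1] at hj'
    have hinv : (stv hf u 1)⁻¹ = stv hf u 1 := by
      refine inv_eq_of_mul_eq_one_right ?_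
      rw [stv_add hf, CharTwo.add_self_eq_zero, stv_zero hf]
    rw [hinv] at hj'
    exact orth_of_two_power hf ⟨j, hj'⟩
  refine eq_el_of_act hf ha hgH.1 hgH.2 fun u hu => ?_
  set d := act g u + u with hd
  have hag : ∀ z, f a z = 0 → f a (act g z) = 0 := fun z hz => by
    conv_lhs => rw [← hgH.2]
    rwa [mem_isoGroup.1 hgH.1]
  have hdperp : ∀ z, f a z = 0 → f z d = 0 := by
    intro z hz
    let t : ↥(pointStab f a) := ⟨stv hf u 1, hstv u hu⟩
    let g' : ↥(pointStab f a) := ⟨g, hgH⟩
    have hmem : g' * t * g'⁻¹ * t⁻¹ ∈ O := by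
      have := hOn.conj_mem g'⁻¹ (O.inv_mem hgO) t
      have h3 : g' * t * g'⁻¹ * t⁻¹ = g' * (t * g'⁻¹ * t⁻¹) := by group
      rw [h3]; exact O.mul_mem hgO this
    have h := horth _ hmem z hz
    have hinv : (stv hf u 1)⁻¹ = stv hf u 1 := by
      refine inv_eq_of_mul_eq_one_right ?_
      rw [stv_add hf, CharTwo.add_self_eq_zero, stv_zero hf]
    simp only [Subgroup.coe_mul, Subgroup.coe_inv, t, g', conj_stv hf hgH.1, hinv] at h
    rw [act_mul, act_stv hf, act_stv hf] at h
    have hperp : f u (act g u) = 0 := f_eq_zero_symm hf (horth ⟨g, hgH⟩ hgO u hu)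
    simp only [f_add_left hf, f_smul_left hf, f_self hf, one_mul, hperp] at h
    have h' : (f z d) ^ 2 = 0 := by
      rw [hd, f_add_right hf]
      linear_combination h + (f z (act g u) * f z u) * CharTwo.two_eq_zero (R := F) +
        (f z u) * (f_comm hf z u) + (f z (act g u)) * (f_comm hf z (act g u))
    exact pow_eq_zero_iff two_ne_zero |>.1 h'
  obtain ⟨e, he⟩ := exists_dual_vec hf ha
  refine ⟨f e d, ?_⟩
  have hzero : d + f e d • a = 0 := by
    apply flin_injective hf
    apply LinearMap.ext
    intro x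
    simp only [flin_apply, f_zero_right hf, f_add_right hf, f_smul_right hf]
    have h := hdperp (x + f x a • e) (by
      rw [f_add_right hf, f_smul_right hf, f_comm hf a e, he, f_comm hf a x, mul_one,
        CharTwo.add_self_eq_zero])
    rw [f_add_left hf, f_smul_left hf] at h
    linear_combination h
  calc act g u = d + u := by rw [hd, add_assoc, ← two_smul F, CharTwo.two_eq_zero, zero_smul, add_zero]
    _ = f e d • a + u := by
      have : d = f e d • a := by
        have h3 := eq_neg_of_add_eq_zero_left hzero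
        rw [← neg_smul, CharTwo.neg_eq] at h3
        exact h3
      rw [← this]
    _ = u + f e d • a := add_comm _ _

end Cfsg.Agent.SympOver
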