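/-
Good points of an irreducible overgroup, and the case where one of them carries a transvection.
-/
import Cfsg.Agent.Lib.SympOvergroups.Basic

set_option autoImplicit false

namespace Cfsg.Agent.SympOver

open scoped MatrixGroups Matrix
open Cfsg.Agent.MaxCl
open Module (finrank)

variable {ι : Type} [Fintype ι] [DecidableEq ι] {F : Type*} [Field F] [CharP F 2]
variable {f : (ι → F) → (ι → F) → F} (hf : Cfsg.Geo.IsSymplecticForm f)
variable (L : Subgroup (GL ι F))

omit [Fintype ι] [DecidableEq ι] in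
theorem vadd_self (x : ι → F) : x + x = 0 := by
  rw [← two_smul F, CharTwo.two_eq_zero, zero_smul]

/-- the radical of the stabiliser of `a` is covered by `L` up to transvections -/
def Good (a : ι → F) : Prop := ∀ v, f a v = 0 → ∃ c, el hf a v c ∈ L

/-- a good point -/
def Pt (a : ι → F) : Prop := a ≠ 0 ∧ Good hf L a

/-- the hypotheses -/
structure Setup : Prop where
  le : L ≤ isoGroup f
  irred : ∀ W : Submodule F (ι → F), (∀ g ∈ L, ∀ w ∈ W, act g w ∈ W) → W = ⊥ ∨ W = ⊤
  exists_pt : ∃ a, Pt hf L a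
  dim : 4 ≤ Fintype.card ι

/-- no transvection at a good point -/
def NoTv : Prop := ∀ a, Pt hf L a → ∀ d, stv hf a d ∈ L → d = 0

variable {L}
include hf

omit [CharP F 2] in
theorem act_ne_zero {g : GL ι F} {a : ι → F} (ha : a ≠ 0) : act g a ≠ 0 := fun h => ha (by
  rw [← act_inv_act g a, h, map_zero])

theorem Pt.act (hS : Setup hf L) {a : ι → F} (ha : Pt hf L a) {g : GL ι F} (hg : g ∈ L) :
    Pt hf L (MaxCl.act g a) := by
  refine ⟨act_ne_zero hf ha.1, fun v hv => ?_⟩
  obtain ⟨c, hc⟩ := ha.2 (MaxCl.act g⁻¹ v) (by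
    rw [← mem_isoGroup.1 (hS.le hg), act_act_inv, hv])
  refine ⟨c, ?_⟩
  have := L.mul_mem (L.mul_mem hg hc) (L.inv_mem hg)
  rwa [conj_el hf (hS.le hg), act_act_inv] at this

theorem Pt.smul {a : ι → F} (ha : Pt hf L a) {l : F} (hl : l ≠ 0) : Pt hf L (l • a) := by
  refine ⟨smul_ne_zero hl ha.1, fun v hv => ?_⟩
  rw [f_smul_left hf, mul_eq_zero] at hv
  have hv := hv.resolve_left hl
  obtain ⟨c, hc⟩ := ha.2 (l • v) (by rw [f_smul_right hf, hv, mul_zero])
  refine ⟨c / l ^ 2, ?_⟩
  rw [el_smul hf hv, mul_div_cancel₀ _ (pow_ne_zero _ hl)]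
  exact hc

/-- two elements over the same vector give a transvection -/
theorem stv_mem_of_el {a v : ι → F} (hv : f a v = 0) {c d : F} (hc : el hf a v c ∈ L)
    (hd : el hf a v d ∈ L) : stv hf a (c + d) ∈ L := by
  have := L.mul_mem hc hd
  rwa [el_mul hf hv hv, vadd_self, f_self hf, add_zero, el_zero hf] at this

/-- a non-empty invariant set is not contained in a hyperplane -/
theorem exists_ne (hS : Setup hf L) {P : (ι → F) → Prop} {a : ι → F} (ha : P a) (ha0 : a ≠ 0)
    (hP : ∀ g ∈ L, ∀ x, P x → P (act g x)) {x : ι → F} (hx : x ≠ 0) : ∃ p, P p ∧ f p x ≠ 0 := by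
  by_contra hne
  push Not at hne
  rcases hS.irred (Submodule.span F {p | P p}) (fun g hg w hw => by
    induction hw using Submodule.span_induction with
    | mem y hy => exact Submodule.subset_span (hP g hg y hy)
    | zero => rw [map_zero]; exact zero_mem _
    | add y z _ _ hy hz => rw [map_add]; exact add_mem hy hz
    | smul c y _ hy => rw [map_smul]; exact Submodule.smul_mem _ _ hy) with h | h
  · exact ha0 ((Submodule.eq_bot_iff _).1 h a (Submodule.subset_span ha))
  · apply ker_flin_ne_top hf hx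
    rw [eq_top_iff, ← h, Submodule.span_le]
    intro p hp
    exact LinearMap.mem_ker.2 (by rw [flin_apply]; exact hne p hp)

/-- a partner among the points with a property -/
theorem exists_partner_in (hS : Setup hf L) {P : (ι → F) → Prop} {a : ι → F} (ha : P a) (ha0 : a ≠ 0)
    (hP : ∀ g ∈ L, ∀ x, P x → P (act g x)) (hPs : ∀ (l : F) x, l ≠ 0 → P x → P (l • x)) :
    ∃ b, P b ∧ f a b = 1 := by
  obtain ⟨p, hp, hpa⟩ := exists_ne hf hS ha ha0 hP ha0
  exact ⟨(f p a)⁻¹ • p, hPs _ _ (inv_ne_zero hpa) hp, by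
    rw [f_smul_right hf, f_comm hf a p, inv_mul_cancel₀ hpa]⟩

theorem exists_partner (hS : Setup hf L) {a : ι → F} (ha : Pt hf L a) : ∃ b, Pt hf L b ∧ f a b = 1 :=
  exists_partner_in hf hS ha ha.1 (fun _ hg _ hx => Pt.act hf hS hx hg) (fun _ _ hl hx => Pt.smul hf hx hl)

omit [CharP F 2] in
/-- a vector orthogonal to two vectors outside a small subspace -/
theorem exists_perp_two (a c : ι → F) (W : Submodule F (ι → F)) (h : finrank F W + 2 < Fintype.card ι) :
    ∃ x, x ∉ W ∧ f a x = 0 ∧ f c x = 0 := by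
  let T : (ι → F) →ₗ[F] F × F := (toBil hf.bilinear a).prod (toBil hf.bilinear c)
  have h1 := LinearMap.finrank_range_add_finrank_ker T
  have h2 := Submodule.finrank_le (LinearMap.range T)
  rw [Module.finrank_prod, Module.finrank_self] at h2
  rw [Module.finrank_pi] at h1
  have h3 : ¬ LinearMap.ker T ≤ W := fun hle => by
    have := Submodule.finrank_mono hle
    omega
  obtain ⟨x, hx, hxW⟩ := SetLike.not_le_iff_exists.1 h3
  have := LinearMap.mem_ker.1 hx
  exact ⟨x, hxW, congrArg Prod.fst this, congrArg Prod.snd this⟩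

omit [CharP F 2] in
theorem exists_perp_pair {a b : ι → F} (h : 4 ≤ Fintype.card ι) :
    ∃ w, w ≠ 0 ∧ f a w = 0 ∧ f b w = 0 := by
  obtain ⟨x, hx, h1, h2⟩ := exists_perp_two hf a b ⊥ (by rw [finrank_bot]; omega)
  exact ⟨x, fun e => hx (e ▸ zero_mem _), h1, h2⟩

omit [CharP F 2] in
theorem exists_one {a c : ι → F} (ha : a ≠ 0) (hc : ∀ t : F, c ≠ t • a) :
    ∃ x, f x a = 0 ∧ f x c = 1 := by
  obtain ⟨e, he⟩ := exists_dual_vec hf ha
  by_contra hne
  push Not at hne
  have hall : ∀ x, f x a = 0 → f x c = 0 := fun x hx => by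
    by_contra h
    exact hne ((f x c)⁻¹ • x) (by rw [f_smul_left hf, hx, mul_zero])
      (by rw [f_smul_left hf, inv_mul_cancel₀ h])
  apply hc (f e c)
  apply flin_injective hf
  apply LinearMap.ext
  intro x
  simp only [flin_apply, f_smul_right hf]
  have := hall (x - f x a • e) (by rw [f_sub_left hf, f_smul_left hf, he, mul_one, sub_self])
  rw [f_sub_left hf, f_smul_left hf] at this
  linear_combination this

omit [CharP F 2] in
theorem exists_one_two {a c u : ι → F} (ha : a ≠ 0) (hc : ∀ t : F, c ≠ t • a)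
    (hu : ∀ s t : F, u ≠ s • a + t • c) : ∃ x, f x a = 0 ∧ f x c = 0 ∧ f x u = 1 := by
  obtain ⟨e₂, h21, h22⟩ := exists_one hf ha hc
  obtain ⟨e₀, he₀⟩ := exists_dual_vec hf ha
  set e₁ := e₀ - f e₀ c • e₂ with he₁
  have h11 : f e₁ a = 1 := by rw [he₁, f_sub_left hf, f_smul_left hf, h21, he₀]; ring
  have h12 : f e₁ c = 0 := by rw [he₁, f_sub_left hf, f_smul_left hf, h22]; ring
  by_contra hne
  push Not at hne
  have hall : ∀ x, f x a = 0 → f x c = 0 → f x u = 0 := fun x hx hx' => by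
    by_contra h
    exact hne ((f x u)⁻¹ • x) (by rw [f_smul_left hf, hx, mul_zero]) (by rw [f_smul_left hf, hx', mul_zero])
      (by rw [f_smul_left hf, inv_mul_cancel₀ h])
  apply hu (f e₁ u) (f e₂ u)
  apply flin_injective hf
  apply LinearMap.ext
  intro x
  simp only [flin_apply, f_smul_right hf, f_add_right hf]
  have := hall (x - f x a • e₁ - f x c • e₂)
    (by rw [f_sub_left hf, f_sub_left hf, f_smul_left hf, f_smul_left hf, h11, h21]; ring)
    (by rw [f_sub_left hf, f_sub_left hf, f_smul_left hf, f_smul_left hf, h12, h22]; ring)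
  rw [f_sub_left hf, f_sub_left hf, f_smul_left hf, f_smul_left hf] at this
  linear_combination this

/-- the product of an element at `a` and its conjugate by an element at an orthogonal point -/
theorem mem_pair (hS : Setup hf L) {a c u v : ι → F} (hac : f a c = 0) (hau : f a u = 0) (hcu : f c u = 0)
    {γ φ : F} (hu : el hf c u γ ∈ L) (hv : f a v = 0) (hvm : el hf a v φ ∈ L) :
    el hf a (f v u • c + f v c • (u + γ • c)) (γ * f v c ^ 2) ∈ L := by
  set r := el hf c u γ with hr
  have hra : act r a = a := by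
    rw [hr, act_el hf hcu, hac, hau]; simp
  have hriso := hS.le hu
  have h1 := L.mul_mem (L.mul_mem hu hvm) (L.inv_mem hu)
  rw [conj_el hf hriso, hra] at h1
  have hrv : f a (act r v) = 0 := by
    conv_lhs => rw [← hra]
    rw [mem_isoGroup.1 hriso, hv]
  have h2 := L.mul_mem hvm h1
  rw [el_mul hf hv hrv] at h2
  have e1 : v + act r v = f v u • c + f v c • (u + γ • c) := by
    rw [hr, act_el hf hcu, add_assoc v, add_assoc v, ← add_assoc v v, vadd_self, zero_add]
    module
  have e2 : φ + φ + f v (act r v) = γ * f v c ^ 2 := by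
    rw [hr, act_el hf hcu]
    simp only [f_add_right hf, f_smul_right hf, f_self hf]
    linear_combination (φ + f v u * f v c) * CharTwo.two_eq_zero (R := F)
  rwa [e1, e2] at h2

/-- the special case of a vector on the line of `a` -/
theorem mem_inner (hS : Setup hf L) {a c : ι → F} (ha : Pt hf L a) (hac : f a c = 0)
    (hc : ∀ t : F, c ≠ t • a) {κ γ : F} (hu : el hf c (κ • a) γ ∈ L) (μ : F) :
    el hf a ((μ * γ) • c) (γ * μ ^ 2) ∈ L := by
  obtain ⟨x, hxa, hxc⟩ := exists_one hf ha.1 hc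
  have hv : f a (μ • x) = 0 := by rw [f_smul_right hf, f_eq_zero_symm hf hxa, mul_zero]
  obtain ⟨φ, hφ⟩ := ha.2 _ hv
  have hca : f c a = 0 := f_eq_zero_symm hf hac
  have h := mem_pair hf hS hac (by rw [f_smul_right hf, f_self hf, mul_zero])
    (by rw [f_smul_right hf, hca, mul_zero]) hu hv hφ
  have e : f (μ • x) (κ • a) • c + f (μ • x) c • (κ • a + γ • c) = (μ * γ) • c + (μ * κ) • a := by
    rw [f_smul_left hf, f_smul_left hf, f_smul_right hf, hxa, hxc]
    module
  rw [e, f_smul_left hf, hxc, mul_one, el_add_smul hf (by rw [f_smul_right hf, hac, mul_zero])] at h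
  exact h

variable [Finite F]

omit hf in
theorem exists_sq (c : F) : ∃ x : F, x ^ 2 = c := by
  haveI := Fintype.ofFinite F
  obtain ⟨x, hx⟩ := FiniteField.isSquare_of_char_two (CharP.eq F (ringChar.charP F) inferInstance) c
  exact ⟨x, by rw [hx, pow_two]⟩

omit hf [CharP F 2] [Finite F] in
theorem eq_one_of_small (h : ∀ t : F, t ≠ 0 → t ^ 2 = 1) [CharP F 2] {t : F} (ht : t ≠ 0) : t = 1 := by
  have h1 := h t ht
  have h2 : (t + 1) ^ 2 = 0 := by linear_combination h1 + (t + 1) * CharTwo.two_eq_zero (R := F)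
  have h3 := pow_eq_zero_iff two_ne_zero |>.1 h2
  linear_combination h3 - CharTwo.two_eq_zero (R := F)

/-- some point carries a full transvection group -/
theorem exists_full (hS : Setup hf L) (h : ¬ NoTv hf L) : ∃ a, Pt hf L a ∧ ∀ c, stv hf a c ∈ L := by
  simp only [NoTv] at h
  push Not at h
  obtain ⟨a₀, ha₀, d₀, hd₀m, hd₀⟩ := h
  by_cases hsmall : ∀ t : F, t ≠ 0 → t ^ 2 = 1
  · refine ⟨a₀, ha₀, fun c => ?_⟩
    rcases eq_or_ne c 0 with rfl | hc
    · rw [stv_zero hf]; exact one_mem _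
    · rwa [eq_one_of_small hsmall hc, ← eq_one_of_small hsmall hd₀]
  push Not at hsmall
  obtain ⟨t, ht0, ht⟩ := hsmall
  let P : (ι → F) → Prop := fun x => Pt hf L x ∧ ∃ d, d ≠ 0 ∧ stv hf x d ∈ L
  have hPact : ∀ g ∈ L, ∀ x, P x → P (act g x) := fun g hg x ⟨hx, d, hd, hdm⟩ =>
    ⟨Pt.act hf hS hx hg, d, hd, by
      have := L.mul_mem (L.mul_mem hg hdm) (L.inv_mem hg)
      rwa [conj_stv hf (hS.le hg)] at this⟩
  have hPs : ∀ (l : F) x, l ≠ 0 → P x → P (l • x) := fun l x hl ⟨hx, d, hd, hdm⟩ =>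
    ⟨Pt.smul hf hx hl, d / l ^ 2, div_ne_zero hd (pow_ne_zero _ hl), by
      rw [stv_smul hf, mul_div_cancel₀ _ (pow_ne_zero _ hl)]; exact hdm⟩
  have ha₀P : P a₀ := ⟨ha₀, d₀, hd₀, hd₀m⟩
  obtain ⟨b, hb, hab⟩ := exists_partner_in hf hS ha₀P ha₀.1 hPact hPs
  obtain ⟨w, hw0, haw, hbw⟩ := exists_perp_pair hf (a := a₀) (b := b) hS.dim
  -- some element at `a₀` over the line of `w` has value zero
  obtain ⟨s, hs0, hs⟩ : ∃ s : F, s ≠ 0 ∧ el hf a₀ (s • w) 0 ∈ L := by
    classical
    by_contra hne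
    push Not at hne
    haveI := Fintype.ofFinite F
    have haw' : ∀ s : F, f a₀ (s • w) = 0 := fun s => by rw [f_smul_right hf, haw, mul_zero]
    choose g hg using fun s : F => ha₀.2 _ (haw' s)
    let T : F × Bool → F := fun p => g p.1 + if p.2 then d₀ else 0
    have hT : ∀ p, el hf a₀ (p.1 • w) (T p) ∈ L := fun p => by
      by_cases hp : p.2
      · have := L.mul_mem (hg p.1) (show el hf a₀ 0 d₀ ∈ L by rw [el_zero hf]; exact hd₀m)
        rw [el_mul hf (haw' _) (f_zero_right hf a₀), add_zero, f_zero_right hf, add_zero] at this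
        simp only [T, if_pos hp]; exact this
      · simp only [T, if_neg hp, add_zero]; exact hg p.1
    have hinj : Function.Injective T := fun p p' hpp => by
      have h1 := L.mul_mem (hT p) (hT p')
      rw [el_mul hf (haw' _) (haw' _), hpp, CharTwo.add_self_eq_zero, zero_add, f_smul_left hf,
        f_smul_right hf, f_self hf, mul_zero, mul_zero, ← add_smul] at h1
      have h2 : p.1 = p'.1 := by
        by_contra hne'
        exact hne _ (fun e => hne' (CharTwo.add_eq_zero.1 e)) h1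
      rcases p with ⟨p, i⟩; rcases p' with ⟨p', j⟩
      simp only at h2
      subst h2
      cases i <;> cases j <;> simp_all [T]
    have := Fintype.card_le_of_injective T hinj
    rw [Fintype.card_prod, Fintype.card_bool] at this
    have := Fintype.card_pos (α := F)
    omega
  have hsw : f a₀ (s • w) = 0 := by rw [f_smul_right hf, haw, mul_zero]
  have hc := hPact _ hs b hb
  have hact : act (el hf a₀ (s • w) 0) b = b + s • w := by
    rw [act_el hf hsw, f_smul_right hf, hbw, f_comm hf b a₀, hab]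
    module
  rw [hact] at hc
  set c := b + s • w
  have hbc : f b c = 0 := by simp only [c, f_add_right hf, f_self hf, f_smul_right hf, hbw, mul_zero, add_zero]
  have hind : ∀ l : F, c ≠ l • b := fun l e => by
    have h1 := congrArg (f a₀) e
    simp only [c, f_add_right hf, f_smul_right hf, hab, haw, mul_zero, add_zero, mul_one] at h1
    rw [← h1, one_smul, add_eq_left] at e
    exact smul_ne_zero hs0 hw0 e
  have hind' : ∀ l : F, b ≠ l • c := fun l e => by
    rcases eq_or_ne l 0 with rfl | hl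
    · rw [zero_smul] at e; exact hb.1.1 e
    · exact hind l⁻¹ (by rw [e, smul_smul, inv_mul_cancel₀ hl, one_smul])
  obtain ⟨e₀, he₀, he₀m⟩ := hc.2
  have key : ∀ μ : F, μ ≠ 0 → ∀ ν : F, el hf c (ν • b) (ν ^ 2 / (e₀ * μ ^ 2)) ∈ L := fun μ hμ ν => by
    have h1 := mem_inner hf hS hb.1 hbc hind (κ := 0) (γ := e₀) (by rw [zero_smul, el_zero hf]; exact he₀m) μ
    have hγ : e₀ * μ ^ 2 ≠ 0 := mul_ne_zero he₀ (pow_ne_zero _ hμ)
    have h2 := mem_inner hf hS hc.1 (f_eq_zero_symm hf hbc) hind' h1 (ν / (e₀ * μ ^ 2))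
    rwa [div_mul_cancel₀ _ hγ, show e₀ * μ ^ 2 * (ν / (e₀ * μ ^ 2)) ^ 2 = ν ^ 2 / (e₀ * μ ^ 2) by
      field_simp] at h2
  refine ⟨c, hc.1, fun x => ?_⟩
  set k := 1 / e₀ + 1 / (e₀ * t ^ 2) with hk
  have hk0 : k ≠ 0 := by
    rw [hk]; intro h0
    have := CharTwo.add_eq_zero.1 h0
    field_simp at this
    first
      | exact ht this
      | exact ht this.symm
  obtain ⟨ν, hν⟩ := exists_sq (x / k)
  have h := stv_mem_of_el hf (by rw [f_smul_right hf, f_eq_zero_symm hf hbc, mul_zero])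
    (key 1 one_ne_zero ν) (key t ht0 ν)
  have e : ν ^ 2 / (e₀ * 1 ^ 2) + ν ^ 2 / (e₀ * t ^ 2) = x := by
    rw [show ν ^ 2 / (e₀ * 1 ^ 2) + ν ^ 2 / (e₀ * t ^ 2) = ν ^ 2 * k by rw [hk]; ring, hν, div_mul_cancel₀ _ hk0]
  rwa [e] at h

/-- with a transvection at a point, `L` is everything -/
theorem isoGroup_le_of_tv (hS : Setup hf L) (h : ¬ NoTv hf L) : isoGroup f ≤ L := by
  obtain ⟨a₀, ha₀, hfull⟩ := exists_full hf hS h
  let P : (ι → F) → Prop := fun x => Pt hf L x ∧ ∀ c, stv hf x c ∈ L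
  have hPact : ∀ g ∈ L, ∀ x, P x → P (act g x) := fun g hg x ⟨hx, hx'⟩ =>
    ⟨Pt.act hf hS hx hg, fun c => by
      have := L.mul_mem (L.mul_mem hg (hx' c)) (L.inv_mem hg)
      rwa [conj_stv hf (hS.le hg)] at this⟩
  have hPs : ∀ (l : F) x, l ≠ 0 → P x → P (l • x) := fun l x hl ⟨hx, hx'⟩ =>
    ⟨Pt.smul hf hx hl, fun c => by rw [stv_smul hf]; exact hx' _⟩
  have step : ∀ a, P a → ∀ x, f x a ≠ 0 → P x := by
    intro a ha x hxa
    obtain ⟨b, hb, hab⟩ := exists_partner_in hf hS ha ha.1.1 hPact hPs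
    obtain ⟨y, hy⟩ : ∃ y, y = (f x a)⁻¹ • x := ⟨_, rfl⟩
    have hya : f y a = 1 := by rw [hy, f_smul_left hf, inv_mul_cancel₀ hxa]
    set w := y + b + f y b • a with hw
    have haw : f a w = 0 := by
      rw [hw, f_add_right hf, f_add_right hf, f_smul_right hf, f_self hf, hab, f_comm hf a y, hya,
        CharTwo.add_self_eq_zero, mul_zero, add_zero]
    have hbw : f b w = 0 := by
      rw [hw, f_add_right hf, f_add_right hf, f_smul_right hf, f_self hf, f_comm hf b a, hab,
        f_comm hf b y, mul_one, add_zero, CharTwo.add_self_eq_zero]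
    obtain ⟨c, hc⟩ := ha.1.2 w haw
    have hg : el hf a w (f y b) ∈ L := by
      have := L.mul_mem hc (show el hf a 0 (c + f y b) ∈ L by rw [el_zero hf]; exact ha.2 _)
      rwa [el_mul hf haw (f_zero_right hf a), add_zero, f_zero_right hf, add_zero, ← add_assoc,
        CharTwo.add_self_eq_zero, zero_add] at this
    have := hPs (f x a) _ hxa (hPact _ hg b hb)
    rwa [show act (el hf a w (f y b)) b = y by
      rw [act_el hf haw, hbw, f_comm hf b a, hab, hw]
      match_scalars <;> ring_nf <;> simp [CharTwo.two_eq_zero],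
      hy, smul_smul, mul_inv_cancel₀ hxa, one_smul] at this
  have ha₀P : P a₀ := ⟨ha₀, hfull⟩
  have hall : ∀ u c, stv hf u c ∈ L := fun u c => by
    rcases eq_or_ne u 0 with rfl | hu
    · rw [show stv hf (0 : ι → F) c = 1 from gl_ext fun x => by rw [act_stv hf, act_one]; simp]
      exact one_mem _
    obtain ⟨y, hy1, hy2⟩ := exists_f_ne_two hf ha₀.1 hu
    exact (step y (step a₀ ha₀P y hy1) u (f_ne_symm hf hy2)).2 c
  exact isoGroup_le_of_full hf L (fun u c => hall u c)

end Cfsg.Agent.SympOver
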