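/-
The value function of a good point when no good point carries a transvection.
-/
import Cfsg.Agent.Lib.SympOvergroups.Pts

set_option autoImplicit false

namespace Cfsg.Agent.SympOver

open scoped MatrixGroups Matrix
open Cfsg.Agent.MaxCl

variable {ι : Type} [Fintype ι] [DecidableEq ι] {F : Type*} [Field F] [CharP F 2]
variable {f : (ι → F) → (ι → F) → F} (hf : Cfsg.Geo.IsSymplecticForm f)
variable (L : Subgroup (GL ι F))

/-- the value of `v` at the point `a` -/
noncomputable def phi (a v : ι → F) : F := by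
  classical
  exact if h : ∃ c, el hf a v c ∈ L then h.choose else 0

/-- an orthogonal partner -/
def HasPair (a : ι → F) : Prop := ∃ c, Pt hf L c ∧ f a c = 0 ∧ ∀ t : F, c ≠ t • a

variable {L}
include hf

theorem phi_spec {a v : ι → F} (ha : Pt hf L a) (hv : f a v = 0) : el hf a v (phi hf L a v) ∈ L := by
  have h := ha.2 v hv
  rw [phi, dif_pos h]
  exact h.choose_spec

variable (hS : Setup hf L) (hN : NoTv hf L)
include hS hN

omit hS in
theorem phi_eq {a v : ι → F} (ha : Pt hf L a) (hv : f a v = 0) {c : F} (h : el hf a v c ∈ L) :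
    phi hf L a v = c :=
  CharTwo.add_eq_zero.1 (hN a ha _ (stv_mem_of_el hf hv (phi_spec hf ha hv) h))

omit hS in
theorem phi_add {a v w : ι → F} (ha : Pt hf L a) (hv : f a v = 0) (hw : f a w = 0) :
    phi hf L a (v + w) = phi hf L a v + phi hf L a w + f v w := by
  refine phi_eq hf hN ha (by rw [f_add_right hf, hv, hw, add_zero]) ?_
  rw [← el_mul hf hv hw]
  exact L.mul_mem (phi_spec hf ha hv) (phi_spec hf ha hw)

omit hS in
theorem phi_zero {a : ι → F} (ha : Pt hf L a) : phi hf L a 0 = 0 :=
  phi_eq hf hN ha (f_zero_right hf a) (by rw [el_zero_zero hf]; exact one_mem _)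

omit hS in
theorem phi_add_smul {a v : ι → F} (ha : Pt hf L a) (hv : f a v = 0) (t : F) :
    phi hf L a (v + t • a) = phi hf L a v :=
  phi_eq hf hN ha (by rw [f_add_right hf, f_smul_right hf, hv, f_self hf]; ring)
    (by rw [el_add_smul hf hv]; exact phi_spec hf ha hv)

omit hS in
theorem phi_add_left_smul {a v : ι → F} (ha : Pt hf L a) (hv : f a v = 0) (t : F) :
    phi hf L a (t • a + v) = phi hf L a v := by
  rw [add_comm, phi_add_smul hf hN ha hv]

omit hS in
theorem phi_add_self {a v : ι → F} (ha : Pt hf L a) (hv : f a v = 0) :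
    phi hf L a (a + v) = phi hf L a v ∧ phi hf L a (v + a) = phi hf L a v := by
  constructor
  · simpa using phi_add_left_smul hf hN ha hv 1
  · simpa using phi_add_smul hf hN ha hv 1

theorem phi_act {a v : ι → F} (ha : Pt hf L a) (hv : f a v = 0) {g : GL ι F} (hg : g ∈ L) :
    phi hf L (act g a) (act g v) = phi hf L a v := by
  refine phi_eq hf hN (Pt.act hf hS ha hg) (by rw [mem_isoGroup.1 (hS.le hg), hv]) ?_
  rw [← conj_el hf (hS.le hg)]
  exact L.mul_mem (L.mul_mem hg (phi_spec hf ha hv)) (L.inv_mem hg)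

omit hS hN in
theorem ind_symm {a c : ι → F} (ha : a ≠ 0) (hc : ∀ t : F, c ≠ t • a) : ∀ t : F, a ≠ t • c :=
  fun t e => by
    rcases eq_or_ne t 0 with rfl | ht
    · rw [zero_smul] at e; exact ha e
    · exact hc t⁻¹ (by rw [e, smul_smul, inv_mul_cancel₀ ht, one_smul])

variable (hq : 4 < Fintype.card ι ∨ ∃ t : F, t ≠ 0 ∧ t ≠ 1)
include hq

theorem pair_zero {a c : ι → F} (ha : Pt hf L a) (hcP : Pt hf L c) (hac : f a c = 0)
    (hc : ∀ t : F, c ≠ t • a) (κ : F) : phi hf L a (κ • c) = 0 := by
  have hκ : ∀ κ : F, f a (κ • c) = 0 := fun κ => by rw [f_smul_right hf, hac, mul_zero]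
  have hca := f_eq_zero_symm hf hac
  rcases hq with hι | ⟨t, ht0, ht1⟩
  · obtain ⟨u, huW, hau, hcu⟩ := exists_perp_two hf a c (Submodule.span F (Set.range ![a, c]))
      (lt_of_le_of_lt (Nat.add_le_add_right ((finrank_range_le_card ![a, c]).trans_eq (Fintype.card_fin 2)) 2) hι)
    obtain ⟨x, hxa, hxc, hxu⟩ := exists_one_two hf ha.1 hc (u := u) fun s t e => huW (by
      rw [e, Submodule.mem_span_range_iff_exists_fun]
      exact ⟨![s, t], by simp⟩)
    have hv : f a (κ • x) = 0 := by rw [f_smul_right hf, f_eq_zero_symm hf hxa, mul_zero]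
    have h := mem_pair hf hS hac hau hcu (phi_spec hf hcP hcu) hv (phi_spec hf ha hv)
    simp only [f_smul_left hf, hxc, hxu, mul_zero, mul_one, zero_smul, add_zero, zero_pow, ne_eq,
      OfNat.ofNat_ne_zero, not_false_eq_true] at h
    exact phi_eq hf hN ha (hκ κ) h
  · have step : ∀ {a c : ι → F}, Pt hf L a → Pt hf L c → f a c = 0 → (∀ t : F, c ≠ t • a) → ∀ κ γ : F,
        phi hf L c (κ • a) = γ → γ ≠ 0 → ∀ ν : F, phi hf L a (ν • c) = ν ^ 2 / γ := by
      intro a c ha hcP hac hc κ γ hγ hγ0 ν
      have h := mem_inner hf hS ha hac hc (hγ ▸ phi_spec hf hcP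
        (by rw [f_smul_right hf, f_eq_zero_symm hf hac, mul_zero])) (ν / γ)
      rw [div_mul_cancel₀ _ hγ0] at h
      rw [phi_eq hf hN ha (by rw [f_smul_right hf, hac, mul_zero]) h]
      field_simp
    by_contra hne
    have hind := ind_symm hf ha.1 hc
    have h1 := step hcP ha hca hind κ _ rfl hne
    have hγ0 : (1 : F) ^ 2 / phi hf L a (κ • c) ≠ 0 := div_ne_zero (by simp) hne
    have h2 := step ha hcP hac hc 1 _ (h1 1) hγ0
    have hμ : phi hf L a (t • c) ≠ 0 := by
      rw [h2]; exact div_ne_zero (pow_ne_zero _ ht0) hγ0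
    have h3 := step hcP ha hca hind t _ rfl hμ 1
    rw [h1 1, h2 t] at h3
    field_simp at h3
    have h4 : (t + 1) ^ 2 = 0 := by
      linear_combination h3 + (t + 1) * CharTwo.two_eq_zero (R := F)
    exact ht1 (CharTwo.add_eq_zero.1 (pow_eq_zero_iff two_ne_zero |>.1 h4))

/-- values at a point are read at an orthogonal partner -/
theorem pair_hom {a c : ι → F} (ha : Pt hf L a) (hcP : Pt hf L c) (hac : f a c = 0)
    (hc : ∀ t : F, c ≠ t • a) {u : ι → F} (hau : f a u = 0) (hcu : f c u = 0) (t : F) :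
    phi hf L a (t • u) = t ^ 2 * phi hf L c u := by
  by_cases hu : ∀ s r : F, u ≠ s • a + r • c
  · obtain ⟨x, hxa, hxc, hxu⟩ := exists_one_two hf ha.1 hc hu
    obtain ⟨y₀, hya, hyc⟩ := exists_one hf ha.1 hc
    set γ := phi hf L c u
    set v := t • y₀ + (t * γ - t * f y₀ u) • x with hvdef
    have hv : f a v = 0 := by
      rw [hvdef, f_add_right hf, f_smul_right hf, f_smul_right hf, f_eq_zero_symm hf hya,
        f_eq_zero_symm hf hxa]; ring
    have h := mem_pair hf hS hac hau hcu (phi_spec hf hcP hcu) hv (phi_spec hf ha hv)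
    have hvc : f v c = t := by
      rw [hvdef, f_add_left hf, f_smul_left hf, f_smul_left hf, hyc, hxc]; ring
    have hvu : f v u = t * γ := by
      rw [hvdef, f_add_left hf, f_smul_left hf, f_smul_left hf, hxu]; ring
    rw [hvc, hvu, show (t * γ) • c + t • (u + γ • c) = t • u by
      match_scalars <;> ring_nf <;> simp [CharTwo.two_eq_zero]] at h
    rw [phi_eq hf hN ha (by rw [f_smul_right hf, hau, mul_zero]) h]
    ring
  · push Not at hu
    obtain ⟨s, r, rfl⟩ := hu
    have h1 : phi hf L a (t • (s • a + r • c)) = 0 := by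
      rw [smul_add, smul_smul, smul_smul,
        phi_add_left_smul hf hN ha (by rw [f_smul_right hf, hac, mul_zero]),
        pair_zero hf hS hN hq ha hcP hac hc]
    have h2 : phi hf L c (s • a + r • c) = 0 := by
      rw [phi_add_smul hf hN hcP (by rw [f_smul_right hf, f_eq_zero_symm hf hac, mul_zero]),
        pair_zero hf hS hN hq hcP ha (f_eq_zero_symm hf hac) (ind_symm hf ha.1 hc)]
    rw [h1, h2, mul_zero]

/-- a point with an orthogonal partner and any of its other partners -/
theorem normal {a b : ι → F} (ha : Pt hf L a) (hb : Pt hf L b) (hab : f a b = 1) (h : HasPair hf L a) :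
    ∃ w, w ≠ 0 ∧ f a w = 0 ∧ f b w = 0 ∧ (∀ κ : F, phi hf L a (κ • w) = 0) ∧
      (∀ κ : F, phi hf L b (κ • w) = 0) ∧ (∀ κ : F, Pt hf L (b + κ • w)) ∧
      (∀ κ : F, Pt hf L (a + κ • w)) ∧ HasPair hf L b := by
  obtain ⟨c, hcP, hac, hc⟩ := h
  have hba : f b a = 1 := by rw [f_comm hf, hab]
  obtain ⟨w, hw⟩ : ∃ w, w = c + f b c • a := ⟨_, rfl⟩
  have haw : f a w = 0 := by rw [hw, f_add_right hf, f_smul_right hf, hac, f_self hf]; ring
  have hbw : f b w = 0 := by
    rw [hw, f_add_right hf, f_smul_right hf, hba, mul_one, CharTwo.add_self_eq_zero]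
  have hw0 : w ≠ 0 := fun e => hc (f b c) (by
    have := eq_neg_of_add_eq_zero_left (hw.symm.trans e)
    rwa [← neg_smul, CharTwo.neg_eq] at this)
  have hphia : ∀ κ : F, phi hf L a (κ • w) = 0 := fun κ => by
    rw [hw, smul_add, smul_smul, phi_add_smul hf hN ha (by rw [f_smul_right hf, hac, mul_zero]),
      pair_zero hf hS hN hq ha hcP hac hc]
  have hκa : ∀ κ : F, f a (κ • w) = 0 := fun κ => by rw [f_smul_right hf, haw, mul_zero]
  have hκb : ∀ κ : F, f b (κ • w) = 0 := fun κ => by rw [f_smul_right hf, hbw, mul_zero]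
  have hPb : ∀ κ : F, Pt hf L (b + κ • w) := fun κ => by
    have h1 := phi_spec hf (L := L) ha (hκa κ)
    rw [hphia κ] at h1
    have h2 := Pt.act hf hS hb h1
    rwa [show act (el hf a (κ • w) 0) b = b + κ • w by
      rw [act_el hf (hκa κ), hκb κ, hba]; module] at h2
  have hb1 : f b (b + w) = 0 := by rw [f_add_right hf, f_self hf, hbw, add_zero]
  have hbind : ∀ t : F, b + w ≠ t • b := fun t e => by
    have h1 := congrArg (f a) e
    rw [f_add_right hf, f_smul_right hf, hab, haw, add_zero, mul_one] at h1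
    rw [← h1, one_smul, add_eq_left] at e
    exact hw0 e
  have hbw1 : Pt hf L (b + w) := by simpa using hPb 1
  have hphib : ∀ κ : F, phi hf L b (κ • w) = 0 := fun κ => by
    rw [← phi_add_left_smul hf hN hb (hκb κ) κ, ← smul_add,
      pair_zero hf hS hN hq hb hbw1 hb1 hbind]
  refine ⟨w, hw0, haw, hbw, hphia, hphib, hPb, fun κ => ?_, b + w, hbw1, hb1, hbind⟩
  have h1 := phi_spec hf (L := L) hb (hκb κ)
  rw [hphib κ] at h1
  have h2 := Pt.act hf hS ha h1
  rwa [show act (el hf b (κ • w) 0) a = a + κ • w by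
    rw [act_el hf (hκb κ), hκa κ, hab]; module] at h2

/-- values are homogeneous at a point with an orthogonal partner -/
theorem hom_of_pair {a : ι → F} (ha : Pt hf L a) (h : HasPair hf L a) {x : ι → F} (hx : f a x = 0) (t : F) :
    phi hf L a (t • x) = t ^ 2 * phi hf L a x := by
  obtain ⟨b, hb, hab⟩ := exists_partner hf hS ha
  obtain ⟨w, hw0, haw, hbw, hphia, hphib, hPb, hPa, -⟩ := normal hf hS hN hq ha hb hab h
  have hba : f b a = 1 := by rw [f_comm hf, hab]
  have hind : ∀ s r : F, w ≠ s • a + r • b := fun s r e => by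
    have h1 := congrArg (f a) e
    have h2 := congrArg (f b) e
    rw [haw, f_add_right hf, f_smul_right hf, f_smul_right hf, f_self hf, hab] at h1
    rw [hbw, f_add_right hf, f_smul_right hf, f_smul_right hf, f_self hf, hba] at h2
    simp at h1 h2
    rw [← h1, ← h2] at e
    simp at e
    exact hw0 e
  obtain ⟨v, hva, hvb, hvw⟩ := exists_one_two hf ha.1 (fun t e => by
    have := congrArg (f a) e
    rw [hab, f_smul_right hf, f_self hf, mul_zero] at this
    exact one_ne_zero this) hind
  have hav := f_eq_zero_symm hf hva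
  have hbv := f_eq_zero_symm hf hvb
  have hwv : f w v = 1 := by rw [f_comm hf, hvw]
  set φ := phi hf L a v
  obtain ⟨u, hu⟩ : ∃ u, u = v + φ • w := ⟨_, rfl⟩
  have hau : f a u = 0 := by rw [hu, f_add_right hf, f_smul_right hf, hav, haw]; ring
  have hbu : f b u = 0 := by rw [hu, f_add_right hf, f_smul_right hf, hbv, hbw]; ring
  -- a second point orthogonal to `b`
  have hbu1 : Pt hf L (b + u) := by
    have h2 := Pt.act hf hS (hPb φ) (phi_spec hf (L := L) ha hav)
    rwa [show act (el hf a v φ) (b + φ • w) = b + u by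
      rw [act_el hf hav]
      simp only [f_add_left hf, f_smul_left hf, hbv, hba, hwv, f_eq_zero_symm hf haw, hu]
      match_scalars <;> ring_nf <;> simp [CharTwo.two_eq_zero]] at h2
  have hu0 : u ≠ 0 := fun e => by
    have := congrArg (f w) (hu.symm.trans e)
    rw [f_add_right hf, f_smul_right hf, f_self hf, f_zero_right hf, hwv] at this
    simp at this
  have hb1 : f b (b + u) = 0 := by rw [f_add_right hf, f_self hf, hbu, add_zero]
  have hbind : ∀ t : F, b + u ≠ t • b := fun t e => by
    have h1 := congrArg (f a) e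
    rw [f_add_right hf, f_smul_right hf, hab, hau, add_zero, mul_one] at h1
    rw [← h1, one_smul, add_eq_left] at e
    exact hu0 e
  have hphiu : phi hf L b u = 0 := by
    have := pair_zero hf hS hN hq hb hbu1 hb1 hbind 1
    rwa [one_smul, (phi_add_self hf hN hb hbu).1] at this
  have hau1 : Pt hf L (a + u) := by
    have h1 := phi_spec hf (L := L) hb hbu
    rw [hphiu] at h1
    have h2 := Pt.act hf hS ha h1
    rwa [show act (el hf b u 0) a = a + u by rw [act_el hf hbu, hau, hab]; module] at h2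
  have ind1 : ∀ {z : ι → F}, z ≠ 0 → f b z = 0 → ∀ s : F, a + z ≠ s • a := fun {z} hz hbz s e => by
    have h1 := congrArg (f b) e
    rw [f_add_right hf, f_smul_right hf, hba, hbz, add_zero, mul_one] at h1
    rw [← h1, one_smul, add_eq_left] at e
    exact hz e
  have haw1 : Pt hf L (a + w) := by simpa using hPa 1
  have part : ∀ {z : ι → F}, z ≠ 0 → f a z = 0 → f b z = 0 → Pt hf L (a + z) → ∀ {y : ι → F},
      f a y = 0 → f (a + z) y = 0 → phi hf L a (t • y) = t ^ 2 * phi hf L a y := by
    intro z hz haz hbz hzP y hy hy'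
    have h1 := pair_hom hf hS hN hq ha hzP (by rw [f_add_right hf, f_self hf, haz, add_zero]) (ind1 hz hbz) hy hy'
    have h2 := h1 1
    rw [one_smul, one_pow, one_mul] at h2
    rw [h1 t, h2]
  -- decomposition of `x`
  set k := f (a + w) x
  obtain ⟨x₁, hx₁⟩ : ∃ x₁, x₁ = x + k • u := ⟨_, rfl⟩
  have hku : f a (k • u) = 0 := by rw [f_smul_right hf, hau, mul_zero]
  have hax₁ : f a x₁ = 0 := by rw [hx₁, f_add_right hf, hx, hku, add_zero]
  have hwu : f (a + w) u = 1 := by
    rw [f_add_left hf, hau, hu, f_add_right hf, f_smul_right hf, hwv, f_self hf]; ring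
  have hp1 : f (a + w) x₁ = 0 := by
    rw [hx₁, f_add_right hf, f_smul_right hf, hwu, mul_one, CharTwo.add_self_eq_zero]
  have hp2 : f (a + u) (k • u) = 0 := by rw [f_smul_right hf, f_add_left hf, hau, f_self hf]; ring
  have e : x = x₁ + k • u := by rw [hx₁, add_assoc, vadd_self, add_zero]
  have e1 := part hw0 haw hbw haw1 hax₁ hp1
  have e2 := part hu0 hau hbu hau1 hku hp2
  have ht1 : f a (t • x₁) = 0 := by rw [f_smul_right hf, hax₁, mul_zero]
  have ht2 : f a (t • k • u) = 0 := by rw [f_smul_right hf, hku, mul_zero]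
  rw [e, smul_add, phi_add hf hN ha ht1 ht2, phi_add hf hN ha hax₁ hku, e1, e2, f_smul_left hf,
    f_smul_right hf]
  ring

/-- the values at two partners agree -/
theorem eq_of_pair {a b : ι → F} (ha : Pt hf L a) (hb : Pt hf L b) (hab : f a b = 1) (h : HasPair hf L a)
    {x : ι → F} (hax : f a x = 0) (hbx : f b x = 0) : phi hf L b x = phi hf L a x := by
  obtain ⟨z, hz0, haz, hbz, hphia, hphib, hPb, hPa, hb'⟩ := normal hf hS hN hq ha hb hab h
  have hba : f b a = 1 := by rw [f_comm hf, hab]
  have homa := fun {x} (hx : f a x = 0) t => hom_of_pair hf hS hN hq ha h hx t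
  have homb := fun {x} (hx : f b x = 0) t => hom_of_pair hf hS hN hq hb hb' hx t
  have hzero : ∀ u, f a u = 0 → f b u = 0 → phi hf L b u = 0 → phi hf L a u = 0 := by
    intro u hau hbu hu
    rcases eq_or_ne u 0 with rfl | hu0
    · exact phi_zero hf hN ha
    have h1 := phi_spec hf (L := L) hb hbu
    rw [hu] at h1
    have h2 := Pt.act hf hS ha h1
    rw [show act (el hf b u 0) a = a + u by rw [act_el hf hbu, hau, hab]; module] at h2
    have h3 := pair_zero hf hS hN hq ha h2 (by rw [f_add_right hf, f_self hf, hau, add_zero]) (fun s e => by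
      have h1 := congrArg (f b) e
      rw [f_add_right hf, f_smul_right hf, hba, hbu, add_zero, mul_one] at h1
      rw [← h1, one_smul, add_eq_left] at e
      exact hu0 e) 1
    rwa [one_smul, (phi_add_self hf hN ha hau).1] at h3
  have hone : ∀ w, f a w = 0 → f b w = 0 → f z w = 1 → phi hf L b w = phi hf L a w := by
    intro w haw hbw hzw
    set k := phi hf L b w
    have hk1 : f a (k • z) = 0 := by rw [f_smul_right hf, haz, mul_zero]
    have hk2 : f b (k • z) = 0 := by rw [f_smul_right hf, hbz, mul_zero]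
    have h1 : phi hf L b (w + k • z) = 0 := by
      rw [phi_add hf hN hb hbw hk2, hphib, f_smul_right hf, f_comm hf w z, hzw, mul_one, add_zero]
      exact CharTwo.add_self_eq_zero k
    have h2 := hzero _ (by rw [f_add_right hf, haw, hk1, add_zero]) (by rw [f_add_right hf, hbw, hk2, add_zero]) h1
    rw [phi_add hf hN ha haw hk1, hphia, f_smul_right hf, f_comm hf w z, hzw, mul_one, add_zero] at h2
    exact (CharTwo.add_eq_zero.1 h2).symm
  have hne : ∀ w, f a w = 0 → f b w = 0 → f z w ≠ 0 → phi hf L b w = phi hf L a w := by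
    intro w haw hbw hzw
    have h1 := hone ((f z w)⁻¹ • w) (by rw [f_smul_right hf, haw, mul_zero])
      (by rw [f_smul_right hf, hbw, mul_zero]) (by rw [f_smul_right hf, inv_mul_cancel₀ hzw])
    rw [homa haw, homb hbw] at h1
    exact mul_left_cancel₀ (pow_ne_zero _ (inv_ne_zero hzw)) h1
  by_cases hzx : f z x = 0
  · have hind : ∀ s r : F, z ≠ s • a + r • b := fun s r e => by
      have h1 := congrArg (f a) e
      have h2 := congrArg (f b) e
      rw [haz, f_add_right hf, f_smul_right hf, f_smul_right hf, f_self hf, hab] at h1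
      rw [hbz, f_add_right hf, f_smul_right hf, f_smul_right hf, f_self hf, hba] at h2
      simp at h1 h2
      rw [← h1, ← h2] at e
      simp at e
      exact hz0 e
    obtain ⟨v, hva, hvb, hvz⟩ := exists_one_two hf ha.1 (fun t e => by
      have := congrArg (f a) e
      rw [hab, f_smul_right hf, f_self hf, mul_zero] at this
      exact one_ne_zero this) hind
    have hav := f_eq_zero_symm hf hva
    have hbv := f_eq_zero_symm hf hvb
    have hzv : f z v = 1 := by rw [f_comm hf, hvz]
    have h1 := hne (x + v) (by rw [f_add_right hf, hax, hav, add_zero]) (by rw [f_add_right hf, hbx, hbv, add_zero])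
      (by rw [f_add_right hf, hzx, hzv, zero_add]; exact one_ne_zero)
    rw [phi_add hf hN ha hax hav, phi_add hf hN hb hbx hbv, hone v hav hbv hzv] at h1
    linear_combination h1
  · exact hne x hax hbx hzx

/-- the partners of a point with an orthogonal partner -/
theorem tau_of_pair {a b : ι → F} (ha : Pt hf L a) (hb : Pt hf L b) (hab : f a b = 1) (h : HasPair hf L a)
    {τ : F} (hτ : Pt hf L (b + τ • a)) : τ = 0 := by
  obtain ⟨w, hw0, haw, hbw, hphia, hphib, hPb, hPa, -⟩ := normal hf hS hN hq ha hb hab h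
  have hba : f b a = 1 := by rw [f_comm hf, hab]
  have hind : ∀ s r : F, w ≠ s • a + r • b := fun s r e => by
    have h1 := congrArg (f a) e
    have h2 := congrArg (f b) e
    rw [haw, f_add_right hf, f_smul_right hf, f_smul_right hf, f_self hf, hab] at h1
    rw [hbw, f_add_right hf, f_smul_right hf, f_smul_right hf, f_self hf, hba] at h2
    simp at h1 h2
    rw [← h1, ← h2] at e
    simp at e
    exact hw0 e
  obtain ⟨v, hva, hvb, hvw⟩ := exists_one_two hf ha.1 (fun t e => by
    have := congrArg (f a) e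
    rw [hab, f_smul_right hf, f_self hf, mul_zero] at this
    exact one_ne_zero this) hind
  have hav := f_eq_zero_symm hf hva
  have hbv := f_eq_zero_symm hf hvb
  have hwv : f w v = 1 := by rw [f_comm hf, hvw]
  have hwa := f_eq_zero_symm hf haw
  have hwb := f_eq_zero_symm hf hbw
  have haw1 : Pt hf L (a + w) := by simpa using hPa 1
  obtain ⟨b', hb'⟩ : ∃ b', b' = b + τ • a := ⟨_, rfl⟩
  rw [← hb'] at hτ
  have hab' : f a b' = 1 := by rw [hb', f_add_right hf, f_smul_right hf, f_self hf, hab]; ring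
  have hcb' : f (a + w) b' = 1 := by
    rw [hb', f_add_left hf, f_add_right hf, f_add_right hf, f_smul_right hf, f_smul_right hf, hab, hwb, hwa,
      f_self hf]
    ring
  have hpc : HasPair hf L (a + w) := ⟨a, ha, by rw [f_add_left hf, f_self hf, hwa, add_zero], ind_symm hf ha.1 fun s e => by
    have h1 := congrArg (f b) e
    rw [f_add_right hf, f_smul_right hf, hba, hbw, add_zero, mul_one] at h1
    rw [← h1, one_smul, add_eq_left] at e
    exact hw0 e⟩
  have hb'v : f b' v = 0 := by rw [hb', f_add_left hf, f_smul_left hf, hbv, hav]; ring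
  have hb'b' : f b' b' = 0 := f_self hf _
  obtain ⟨x, hx⟩ : ∃ x, x = v + b' := ⟨_, rfl⟩
  have hb'x : f b' x = 0 := by rw [hx, f_add_right hf, hb'v, hb'b', add_zero]
  have hcx : f (a + w) x = 0 := by
    rw [hx, f_add_right hf, hcb', f_add_left hf, hav, hwv, zero_add, CharTwo.add_self_eq_zero]
  have h1 : phi hf L b' x = phi hf L a v := by
    rw [hx, (phi_add_self hf hN hτ hb'v).2, eq_of_pair hf hS hN hq ha hτ hab' h hav hb'v]
  have h2 : phi hf L b' x = phi hf L (a + w) x := eq_of_pair hf hS hN hq haw1 hτ hcb' hpc hcx hb'x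
  have hg := phi_spec hf (L := L) hb hbw
  have hphib1 := hphib 1
  rw [one_smul] at hphib1
  rw [hphib1] at hg
  have hga : act (el hf b w 0) a = a + w := by rw [act_el hf hbw, haw, hab]; module
  obtain ⟨y, hy⟩ : ∃ y, y = v + τ • a + τ • w := ⟨_, rfl⟩
  have hgy : act (el hf b w 0) y = x := by
    rw [act_el hf hbw, hy, hx, hb']
    simp only [f_add_left hf, f_smul_left hf, f_self hf, hvb, hvw, hab, haw, hwb]
    match_scalars <;> ring_nf <;> simp [CharTwo.two_eq_zero]
  have hay : f a y = 0 := by
    rw [hy, f_add_right hf, f_add_right hf, f_smul_right hf, f_smul_right hf, hav, f_self hf, haw]; ring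
  have h3 : phi hf L (a + w) x = phi hf L a y := by
    rw [← hga, ← hgy, phi_act hf hS hN ha hay hg]
  have hτw : f a (τ • w) = 0 := by rw [f_smul_right hf, haw, mul_zero]
  have h4 : phi hf L a y = phi hf L a v + τ := by
    rw [hy, add_right_comm, phi_add_smul hf hN ha (by rw [f_add_right hf, hav, hτw, add_zero]),
      phi_add hf hN ha hav hτw, hphia, f_smul_right hf, hvw]
    ring
  rw [h1] at h2
  rw [h3, h4] at h2
  linear_combination -h2

end Cfsg.Agent.SympOver
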