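/-
The quadratic form singular at all good points.
-/
import Cfsg.Agent.Lib.SympOvergroups.Value

set_option autoImplicit false

namespace Cfsg.Agent.SympOver

open scoped MatrixGroups Matrix
open Cfsg.Agent.MaxCl

variable {ι : Type} [Fintype ι] [DecidableEq ι] {F : Type*} [Field F] [CharP F 2]

omit [Fintype ι] [DecidableEq ι] in
/-- two additive functions linked by `g (λ / h λ) = 1 / h λ` are the same multiple of a square -/
theorem hua [Finite F] (g h : F → F) (hg : ∀ x y, g (x + y) = g x + g y) (hh : ∀ x y, h (x + y) = h x + h y)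
    (hgi : Function.Injective g) (hhi : Function.Injective h)
    (hrel : ∀ l, l ≠ 0 → g (l / h l) = 1 / h l) :
    ∀ t l, h (t * l) = t ^ 2 * h l ∧ g l = h l := by
  have hh0 : h 0 = 0 := by simpa using hh 0 0
  have hg0 : g 0 = 0 := by simpa using hg 0 0
  obtain ⟨G, hG⟩ : ∃ G : F → F, ∀ x, h (G x) = x :=
    ⟨fun x => (Finite.injective_iff_surjective.1 hhi x).choose,
      fun x => (Finite.injective_iff_surjective.1 hhi x).choose_spec⟩
  have hGadd : ∀ x y, G (x + y) = G x + G y := fun x y => hhi (by rw [hh, hG, hG, hG])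
  have hG0 : G 0 = 0 := hhi (by rw [hG, hh0])
  have hrel' : ∀ x, x ≠ 0 → g (G x / x) = 1 / x := fun x hx => by
    have := hrel (G x) (fun e => hx (by rw [← hG x, e, hh0]))
    rwa [hG] at this
  set c := G 1 with hc
  have hc0 : c ≠ 0 := fun e => one_ne_zero (by rw [← hG 1, ← hc, e, hh0] : (1 : F) = 0)
  have h2 := CharTwo.two_eq_zero (R := F)
  have hsq : ∀ x, G (x ^ 2) = c * x := fun x => by
    rcases eq_or_ne x 0 with rfl | hx
    · rw [zero_pow two_ne_zero, hG0, mul_zero]
    rcases eq_or_ne x 1 with rfl | hx1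
    · rw [one_pow, mul_one, hc]
    have hx' : x + 1 ≠ 0 := fun e => hx1 (CharTwo.add_eq_zero.1 e)
    have hxx : x * (x + 1) ≠ 0 := mul_ne_zero hx hx'
    have e1 : G x / x + G (x + 1) / (x + 1) = G (x * (x + 1)) / (x * (x + 1)) := by
      apply hgi
      rw [hg, hrel' x hx, hrel' _ hx', hrel' _ hxx]
      field_simp
      linear_combination x * h2
    rw [div_add_div _ _ hx hx', show x * (x + 1) = x ^ 2 + x by ring, hGadd, hGadd, ← hc,
      div_left_inj' (by rw [show x ^ 2 + x = x * (x + 1) by ring]; exact hxx)] at e1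
    linear_combination -e1 + (x * G x) * h2
  have hval : ∀ y, h (c * y) = y ^ 2 := fun y => by rw [← hsq, hG]
  have gval : ∀ y, g (c * y) = y ^ 2 := fun y => by
    rcases eq_or_ne y 0 with rfl | hy
    · rw [mul_zero, hg0, zero_pow two_ne_zero]
    have := hrel' (y⁻¹ ^ 2) (pow_ne_zero _ (inv_ne_zero hy))
    rw [hsq] at this
    rw [show c * y = c * y⁻¹ / y⁻¹ ^ 2 by field_simp, this]
    field_simp
  intro t l
  obtain ⟨y, rfl⟩ : ∃ y, l = c * y := ⟨c⁻¹ * l, by field_simp⟩
  exact ⟨by rw [mul_left_comm, hval, hval, mul_pow], by rw [gval, hval]⟩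

variable {f : (ι → F) → (ι → F) → F} (hf : Cfsg.Geo.IsSymplecticForm f)
variable {L : Subgroup (GL ι F)}
include hf

/-- what is needed at a pair of good points to define the form -/
structure GoodPair (L : Subgroup (GL ι F)) (a b : ι → F) : Prop where
  pa : Pt hf L a
  pb : Pt hf L b
  hab : f a b = 1
  hom : ∀ x, f a x = 0 → ∀ t : F, phi hf L a (t • x) = t ^ 2 * phi hf L a x
  eq : ∀ x, f a x = 0 → f b x = 0 → phi hf L b x = phi hf L a x
  tau : ∀ τ : F, Pt hf L (b + τ • a) → τ = 0
  tau' : ∀ τ : F, Pt hf L (a + τ • b) → τ = 0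
  perp : ∀ x, Pt hf L x → f a x = 0 → f b x = 0 → phi hf L a x = 0

variable (hS : Setup hf L) (hN : NoTv hf L)
include hS hN

theorem exists_form_of_pair {a b : ι → F} (h : GoodPair hf L a b) :
    ∃ Q : QuadraticForm F (ι → F), (∀ u v, QuadraticMap.polar ⇑Q u v = f u v) ∧
      ∀ p, Pt hf L p → Q p = 0 := by
  have hab := h.hab
  have hba : f b a = 1 := by rw [f_comm hf, hab]
  obtain ⟨π, hπ⟩ : ∃ π : (ι → F) → (ι → F), π = fun x => x + f x b • a + f x a • b := ⟨_, rfl⟩
  have hπa : ∀ x, f a (π x) = 0 := fun x => by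
    simp only [hπ, f_add_right hf, f_smul_right hf, f_self hf, hab, f_comm hf a x, mul_zero, mul_one, add_zero]
    exact CharTwo.add_self_eq_zero _
  have hπb : ∀ x, f b (π x) = 0 := fun x => by
    simp only [hπ, f_add_right hf, f_smul_right hf, f_self hf, hba, f_comm hf b x, mul_zero, mul_one, add_zero]
    exact CharTwo.add_self_eq_zero _
  obtain ⟨q, hq⟩ : ∃ q : (ι → F) → F, q = fun x => f x b * f x a + phi hf L a (π x) := ⟨_, rfl⟩
  have hsmul : ∀ (t : F) x, q (t • x) = t * t * q x := fun t x => by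
    have e : π (t • x) = t • π x := by
      simp only [hπ, f_smul_left hf]; module
    simp only [hq, e, h.hom _ (hπa x) t, f_smul_left hf]
    ring
  have hpolar : ∀ x y, QuadraticMap.polar q x y = f x y := fun x y => by
    have e : π (x + y) = π x + π y := by
      simp only [hπ, f_add_left hf]; module
    have e2 : f x y = f (π x) (π y) + f x b * f y a + f x a * f y b := by
      simp only [hπ, f_add_left hf, f_add_right hf, f_smul_left hf, f_smul_right hf, f_self hf, hab, hba,
        f_comm hf a y, f_comm hf b y]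
      linear_combination -(3 * f x b * f y a + 3 * f x a * f y b) * (0 : F) -
        (f x b * f y a + f x a * f y b + f x b * f y a + f x a * f y b) * (0 : F) -
        (2 * f x b * f y a + 2 * f x a * f y b) * CharTwo.two_eq_zero (R := F)
    simp only [QuadraticMap.polar, hq, e, phi_add hf hN h.pa (hπa x) (hπa y), f_add_left hf]
    rw [e2]
    ring
  let Q : QuadraticForm F (ι → F) := QuadraticMap.ofPolar q hsmul
    (fun x x' y => by rw [hpolar, hpolar, hpolar, f_add_left hf])
    (fun t x y => by rw [hpolar, hpolar, f_smul_left hf, smul_eq_mul])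
  refine ⟨Q, hpolar, fun p hp => ?_⟩
  show q p = 0
  have side : ∀ a b : ι → F, Pt hf L a → Pt hf L b → f a b = 1 → (∀ τ : F, Pt hf L (b + τ • a) → τ = 0) →
      ∀ y, Pt hf L y → f y a = 1 → phi hf L a (y + b + f y b • a) = f y b := by
    intro a b ha hb hab tau y hy hya
    have hba : f b a = 1 := by rw [f_comm hf, hab]
    obtain ⟨w, hw⟩ : ∃ w, w = y + b + f y b • a := ⟨_, rfl⟩
    rw [← hw]
    have haw : f a w = 0 := by
      rw [hw, f_add_right hf, f_add_right hf, f_smul_right hf, f_self hf, hab, f_comm hf a y, hya,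
        CharTwo.add_self_eq_zero, mul_zero, add_zero]
    have hbw : f b w = 0 := by
      rw [hw, f_add_right hf, f_add_right hf, f_smul_right hf, f_self hf, hba, f_comm hf b y, mul_one,
        add_zero, CharTwo.add_self_eq_zero]
    have h1 := Pt.act hf hS hy (phi_spec hf (L := L) ha haw)
    have e : act (el hf a w (phi hf L a w)) y = b + (f y b + phi hf L a w) • a := by
      have hy' : y = w + b + f y b • a := by
        rw [hw]
        match_scalars <;> ring_nf <;> simp [CharTwo.two_eq_zero]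
      have hyw : f y w = 0 := by
        rw [hy', f_add_left hf, f_add_left hf, f_smul_left hf, f_self hf, hbw, haw]; ring
      rw [act_el hf haw, hya, hyw]
      conv_lhs => arg 1; arg 1; arg 1; rw [hy']
      match_scalars <;> ring_nf <;> simp [CharTwo.two_eq_zero]
    rw [e] at h1
    exact (CharTwo.add_eq_zero.1 (tau _ h1)).symm
  by_cases h1 : f p a = 0
  · by_cases h2 : f p b = 0
    · simp only [hq, hπ, h1, h2, zero_smul, mul_zero, zero_add, add_zero]
      exact h.perp p hp (f_eq_zero_symm hf h1) (f_eq_zero_symm hf h2)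
    · obtain ⟨y, hy⟩ : ∃ y, y = (f p b)⁻¹ • p := ⟨_, rfl⟩
      have hp' : p = f p b • y := by rw [hy, smul_smul, mul_inv_cancel₀ h2, one_smul]
      have hyb : f y b = 1 := by rw [hy, f_smul_left hf, inv_mul_cancel₀ h2]
      have hya : f y a = 0 := by rw [hy, f_smul_left hf, h1, mul_zero]
      have h3 := side b a h.pb h.pa hba h.tau' y (hy ▸ Pt.smul hf hp (inv_ne_zero h2)) hyb
      rw [hp', hsmul]
      simp only [hq, hπ, hya, hyb, mul_zero, zero_smul, add_zero, one_smul, zero_add]
      have hπy := hπa y; have hπy' := hπb y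
      simp only [hπ, hya, hyb, zero_smul, add_zero, one_smul] at hπy hπy'
      rw [hya, zero_smul, add_zero, h.eq _ hπy hπy'] at h3
      rw [h3, mul_zero]
  · obtain ⟨y, hy⟩ : ∃ y, y = (f p a)⁻¹ • p := ⟨_, rfl⟩
    have hp' : p = f p a • y := by rw [hy, smul_smul, mul_inv_cancel₀ h1, one_smul]
    have hya : f y a = 1 := by rw [hy, f_smul_left hf, inv_mul_cancel₀ h1]
    have h3 := side a b h.pa h.pb hab h.tau y (hy ▸ Pt.smul hf hp (inv_ne_zero h1)) hya
    rw [hp', hsmul]
    simp only [hq, hπ, hya, mul_one, one_smul]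
    rw [add_right_comm, h3, CharTwo.add_self_eq_zero, mul_zero]

variable [Finite F]

section NoPair

variable (hno : ∀ a, Pt hf L a → ¬ HasPair hf L a)
include hno

theorem phi_ne_zero_of_noPair {a b : ι → F} (ha : Pt hf L a) (hb : Pt hf L b) (hab : f a b = 1) {w : ι → F}
    (hw0 : w ≠ 0) (haw : f a w = 0) (hbw : f b w = 0) : phi hf L a w ≠ 0 := fun e => by
  have h1 := phi_spec hf (L := L) ha haw
  rw [e] at h1
  have h2 := Pt.act hf hS hb h1
  rw [show act (el hf a w 0) b = b + w by rw [act_el hf haw, hbw, f_comm hf b a, hab]; module] at h2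
  refine hno b hb ⟨b + w, h2, by rw [f_add_right hf, f_self hf, hbw, add_zero], fun t e => ?_⟩
  have h1 := congrArg (f a) e
  rw [f_add_right hf, f_smul_right hf, hab, haw, add_zero, mul_one] at h1
  rw [← h1, one_smul, add_eq_left] at e
  exact hw0 e

theorem injective_line {a b : ι → F} (ha : Pt hf L a) (hb : Pt hf L b) (hab : f a b = 1) {w : ι → F}
    (hw0 : w ≠ 0) (haw : f a w = 0) (hbw : f b w = 0) :
    (∀ x y : F, phi hf L a ((x + y) • w) = phi hf L a (x • w) + phi hf L a (y • w)) ∧
      Function.Injective fun x : F => phi hf L a (x • w) := by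
  have hlw : ∀ x : F, f a (x • w) = 0 := fun x => by rw [f_smul_right hf, haw, mul_zero]
  have hadd : ∀ x y : F, phi hf L a ((x + y) • w) = phi hf L a (x • w) + phi hf L a (y • w) := fun x y => by
    rw [add_smul, phi_add hf hN ha (hlw x) (hlw y), f_smul_left hf, f_smul_right hf, f_self hf]; ring
  refine ⟨hadd, fun x y e => ?_⟩
  by_contra hne
  refine phi_ne_zero_of_noPair hf hS hN hno ha hb hab (w := (x + y) • w)
    (smul_ne_zero (fun e => hne (CharTwo.add_eq_zero.1 e)) hw0) (hlw _)
    (by rw [f_smul_right hf, hbw, mul_zero]) ?_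
  rw [hadd]
  simp only at e
  rw [e, CharTwo.add_self_eq_zero]

theorem tau_of_noPair {a b : ι → F} (ha : Pt hf L a) (hb : Pt hf L b) (hab : f a b = 1) {τ : F}
    (hτ : Pt hf L (b + τ • a)) : τ = 0 := by
  by_contra hne
  obtain ⟨w, hw0, haw, hbw⟩ := exists_perp_pair hf (a := a) (b := b) hS.dim
  obtain ⟨-, hinj⟩ := injective_line hf hS hN hno ha hb hab hw0 haw hbw
  obtain ⟨l, hl⟩ := Finite.injective_iff_surjective.1 hinj τ
  simp only at hl
  have hl0 : l ≠ 0 := fun e => hne (by rw [← hl, e, zero_smul, phi_zero hf hN ha])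
  have halw : f a (l • w) = 0 := by rw [f_smul_right hf, haw, mul_zero]
  have hblw : f b (l • w) = 0 := by rw [f_smul_right hf, hbw, mul_zero]
  have h1 := phi_spec hf (L := L) ha halw
  rw [hl] at h1
  have hba : f b a = 1 := by rw [f_comm hf, hab]
  have h2 := Pt.act hf hS hb h1
  rw [show act (el hf a (l • w) τ) b = b + τ • a + l • w by rw [act_el hf halw, hblw, hba]; module] at h2
  refine hno _ hτ ⟨_, h2, ?_, fun t e => ?_⟩
  · rw [f_add_right hf, f_self hf, f_add_left hf, f_smul_left hf, hblw, halw]; ring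
  · have h1 := congrArg (f a) e
    simp only [f_add_right hf, f_smul_right hf, f_self hf, hab, haw, mul_zero, add_zero, mul_one] at h1
    rw [← h1, one_smul, add_eq_left] at e
    exact smul_ne_zero hl0 hw0 e

theorem line_of_noPair {a b : ι → F} (ha : Pt hf L a) (hb : Pt hf L b) (hab : f a b = 1) {w : ι → F}
    (haw : f a w = 0) (hbw : f b w = 0) (t : F) :
    phi hf L b (t • w) = t ^ 2 * phi hf L b w ∧ phi hf L b w = phi hf L a w := by
  rcases eq_or_ne w 0 with rfl | hw0
  · rw [smul_zero, phi_zero hf hN ha, phi_zero hf hN hb, mul_zero]; exact ⟨rfl, rfl⟩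
  have hba : f b a = 1 := by rw [f_comm hf, hab]
  obtain ⟨hg, hgi⟩ := injective_line hf hS hN hno ha hb hab hw0 haw hbw
  obtain ⟨hh, hhi⟩ := injective_line hf hS hN hno hb ha hba hw0 hbw haw
  have hrel : ∀ l : F, l ≠ 0 → phi hf L a ((l / phi hf L b (l • w)) • w) = 1 / phi hf L b (l • w) := by
    intro l hl
    set k := phi hf L b (l • w)
    have hblw : f b (l • w) = 0 := by rw [f_smul_right hf, hbw, mul_zero]
    have halw : f a (l • w) = 0 := by rw [f_smul_right hf, haw, mul_zero]
    have hk : k ≠ 0 := fun e => hl (hhi (by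
      show phi hf L b (l • w) = phi hf L b ((0 : F) • w)
      rw [zero_smul, phi_zero hf hN hb]; exact e))
    have h1 := Pt.smul hf (Pt.act hf hS ha (phi_spec hf (L := L) hb hblw)) (inv_ne_zero hk)
    rw [show k⁻¹ • act (el hf b (l • w) k) a = b + (l / k) • w + k⁻¹ • a by
      rw [act_el hf hblw, halw, hab]
      match_scalars <;> field_simp <;> ring] at h1
    obtain ⟨z, hz⟩ : ∃ z, z = (l / k) • w := ⟨_, rfl⟩
    rw [← hz] at h1 ⊢
    have haz : f a z = 0 := by rw [hz, f_smul_right hf, haw, mul_zero]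
    have hbz : f b z = 0 := by rw [hz, f_smul_right hf, hbw, mul_zero]
    have h2 := Pt.act hf hS h1 (phi_spec hf (L := L) ha haz)
    rw [show act (el hf a z (phi hf L a z)) (b + z + k⁻¹ • a) = b + (phi hf L a z + k⁻¹) • a by
      rw [act_el hf haz]
      simp only [f_add_left hf, f_smul_left hf, f_self hf, hbz, hba, haz, f_eq_zero_symm hf haz]
      match_scalars <;> ring_nf <;> simp [CharTwo.two_eq_zero]] at h2
    rw [one_div]
    exact CharTwo.add_eq_zero.1 (tau_of_noPair hf hS hN hno ha hb hab h2)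
  have hua' := hua (fun x : F => phi hf L a (x • w)) (fun x : F => phi hf L b (x • w)) hg hh hgi hhi hrel
  have h1 := hua' t 1
  simp only [mul_one, one_smul] at h1
  exact ⟨h1.1, h1.2.symm⟩

theorem goodPair_of_noPair {a b : ι → F} (ha : Pt hf L a) (hb : Pt hf L b) (hab : f a b = 1) :
    GoodPair hf L a b := by
  have hba : f b a = 1 := by rw [f_comm hf, hab]
  refine ⟨ha, hb, hab, fun x hx t => ?_, fun x h1 h2 => (line_of_noPair hf hS hN hno ha hb hab h1 h2 1).2,
    fun τ hτ => tau_of_noPair hf hS hN hno ha hb hab hτ, fun τ hτ => tau_of_noPair hf hS hN hno hb ha hba hτ,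
    fun x hx h1 h2 => (hno a ha ⟨x, hx, h1, fun t e => ?_⟩).elim⟩
  · obtain ⟨y, hy⟩ : ∃ y, y = x + f b x • a := ⟨_, rfl⟩
    have hay : f a y = 0 := by rw [hy, f_add_right hf, f_smul_right hf, f_self hf, hx]; ring
    have hby : f b y = 0 := by rw [hy, f_add_right hf, f_smul_right hf, hba, mul_one, CharTwo.add_self_eq_zero]
    have hxy : x = y + f b x • a := by rw [hy, add_assoc, vadd_self, add_zero]
    have hty : f a (t • y) = 0 := by rw [f_smul_right hf, hay, mul_zero]
    have h3 := line_of_noPair hf hS hN hno hb ha hba hby hay t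
    rw [hxy, smul_add, smul_smul, phi_add_smul hf hN ha hty, phi_add_smul hf hN ha hay]
    exact h3.1
  · have := congrArg (f b) e
    rw [h2, f_smul_right hf, hba, mul_one] at this
    rw [← this, zero_smul] at e
    exact hx.1 e

end NoPair

theorem goodPair_of_pair (hq : 4 < Fintype.card ι ∨ ∃ t : F, t ≠ 0 ∧ t ≠ 1) {a b : ι → F} (ha : Pt hf L a)
    (hb : Pt hf L b) (hab : f a b = 1) (h : HasPair hf L a) : GoodPair hf L a b := by
  have hba : f b a = 1 := by rw [f_comm hf, hab]
  obtain ⟨w, -, -, -, -, -, -, -, hb'⟩ := normal hf hS hN hq ha hb hab h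
  refine ⟨ha, hb, hab, fun x hx t => hom_of_pair hf hS hN hq ha h hx t,
    fun x h1 h2 => eq_of_pair hf hS hN hq ha hb hab h h1 h2,
    fun τ hτ => tau_of_pair hf hS hN hq ha hb hab h hτ,
    fun τ hτ => tau_of_pair hf hS hN hq hb ha hba hb' hτ, fun x hx h1 h2 => ?_⟩
  have hind : ∀ t : F, x ≠ t • a := fun t e => by
    have := congrArg (f b) e
    rw [h2, f_smul_right hf, hba, mul_one] at this
    rw [← this, zero_smul] at e
    exact hx.1 e
  have := pair_zero hf hS hN hq ha hx h1 hind 1
  rwa [one_smul] at this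

/-- without transvections there is a quadratic form singular at all good points -/
theorem exists_form (hq : 4 < Fintype.card ι ∨ ∃ t : F, t ≠ 0 ∧ t ≠ 1) :
    ∃ Q : QuadraticForm F (ι → F), (∀ u v, QuadraticMap.polar ⇑Q u v = f u v) ∧
      ∀ p, Pt hf L p → Q p = 0 := by
  by_cases h : ∃ a, Pt hf L a ∧ HasPair hf L a
  · obtain ⟨a, ha, hpa⟩ := h
    obtain ⟨b, hb, hab⟩ := exists_partner hf hS ha
    exact exists_form_of_pair hf hS hN (goodPair_of_pair hf hS hN hq ha hb hab hpa)
  · obtain ⟨a, ha⟩ := hS.exists_pt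
    obtain ⟨b, hb, hab⟩ := exists_partner hf hS ha
    push Not at h
    exact exists_form_of_pair hf hS hN (goodPair_of_noPair hf hS hN h ha hb hab)

end Cfsg.Agent.SympOver
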