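/-
An overgroup preserving a quadratic form: it is the isometry group or its subgroup of even rank.
-/
import Cfsg.Agent.Lib.SympOvergroups.Pts
import Cfsg.Agent.Lib.MaxCl.OrthBase
import Cfsg.Agent.Lib.ClassicalSimple.DicksonRank

set_option autoImplicit false

namespace Cfsg.Agent.SympOver

open scoped MatrixGroups Matrix
open Cfsg.Agent.MaxCl
open Module (finrank)

variable {ι : Type} [Fintype ι] [DecidableEq ι] {F : Type*} [Field F]
variable {f : (ι → F) → (ι → F) → F} (hf : Cfsg.Geo.IsSymplecticForm f)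
variable (Q : QuadraticForm F (ι → F)) (hpol : ∀ u v, QuadraticMap.polar ⇑Q u v = f u v)

include hf hpol in
theorem polar_nondegenerate : (QuadraticMap.polarBilin Q).Nondegenerate := by
  refine ⟨fun x h => ?_, fun y h => ?_⟩
  · by_contra hx
    obtain ⟨y, hy⟩ := (hf.nondegenerate x hx).1
    exact f_ne_symm hf hy (by rw [← hpol]; exact h y)
  · by_contra hy
    obtain ⟨x, hx⟩ := (hf.nondegenerate y hy).1
    exact hx (by rw [← hpol]; exact h x)

variable [CharP F 2]

include hf hpol in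
theorem refl_smul {x : ι → F} {l : F} (hl : l ≠ 0) : Orth.refl Q (l • x) = Orth.refl Q x := by
  rcases eq_or_ne (Q x) 0 with hx | hx
  · rw [Orth.refl_of_singular Q hx, Orth.refl_of_singular Q (by rw [Orth.Q_smul Q, hx, mul_zero])]
  · apply gl_ext; intro y
    rw [Orth.act_refl Q hx, Orth.act_refl Q (by rw [Orth.Q_smul Q]; exact mul_ne_zero (mul_ne_zero hl hl) hx),
      Orth.Q_smul Q, Orth.B_smul_left Q, smul_smul]
    congr 2
    field_simp

include hf hpol in
/-- a reflection changes the parity of the rank -/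
theorem even_rank_mul_refl {g : GL ι F} (hg : g ∈ isometryGroup F ⇑Q) {v : ι → F} (hv : Q v ≠ 0) :
    Even (((g * Orth.refl Q v : GL ι F) : Matrix ι ι F) - 1).rank ↔ ¬ Even ((g : Matrix ι ι F) - 1).rank := by
  let g' : ↥(isometryGroup F ⇑Q) := ⟨g, hg⟩
  have er : Orth.refl Q v = (QForm.refl Q v hv : GL ι F) := gl_ext fun x => by
    rw [Orth.act_refl Q hv, act_apply]
    exact (QForm.reflectionMatrix_mulVec Q v x).symm
  have e : ClassicalSimple.isometryEquiv Q (g' * QForm.refl Q v hv) =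
      ClassicalSimple.isometryEquiv Q g' * ClassicalSimple.orefl hv := by
    rw [map_mul, (ClassicalSimple.isometryEquiv_eq_iff Q (QForm.refl Q v hv) (ClassicalSimple.orefl hv) _
      (ClassicalSimple.reflectionMatrix_mulVec Q hv)).2 rfl]
  have h1 := ClassicalSimple.rank_sub_one_add_fix Q g'
  have h2 := ClassicalSimple.rank_sub_one_add_fix Q (g' * QForm.refl Q v hv)
  rw [e] at h2
  have h3 := ClassicalSimple.finrank_fix_mul_orefl
    (ClassicalSimple.bil_nondegenerate Q (polar_nondegenerate hf Q hpol)) (ClassicalSimple.isometryEquiv Q g') hv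
  rw [er]
  simp only [Subgroup.coe_mul, g'] at h1 h2 h3
  simp only [Nat.even_iff]
  omega

include hf hpol in
theorem refl_odd {v : ι → F} (hv : Q v ≠ 0) : ¬ Even ((Orth.refl Q v : Matrix ι ι F) - 1).rank := by
  have := even_rank_mul_refl hf Q hpol (one_mem (isometryGroup F ⇑Q)) hv
  rw [one_mul] at this
  rw [this]
  simp

/-- products of evenly many reflections -/
noncomputable def reflPairs : Subgroup (GL ι F) :=
  Subgroup.closure (Set.range fun p : {x // Q x ≠ 0} × {x // Q x ≠ 0} => Orth.refl Q p.1.1 * Orth.refl Q p.2.1)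

omit [CharP F 2] in
theorem refl_mul_mem_pairs {x y : ι → F} (hx : Q x ≠ 0) (hy : Q y ≠ 0) :
    Orth.refl Q x * Orth.refl Q y ∈ reflPairs Q := Subgroup.subset_closure ⟨(⟨x, hx⟩, ⟨y, hy⟩), rfl⟩

omit [CharP F 2] in
theorem reflPairs_le : reflPairs Q ≤ isometryGroup F ⇑Q := by
  rw [reflPairs, Subgroup.closure_le]
  rintro _ ⟨p, rfl⟩
  exact mul_mem (Orth.refl_mem_iso Q _) (Orth.refl_mem_iso Q _)

omit [CharP F 2] in
theorem conj_mem_pairs {g k : GL ι F} (hg : g ∈ isometryGroup F ⇑Q) (hk : k ∈ reflPairs Q) :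
    g * k * g⁻¹ ∈ reflPairs Q := by
  induction hk using Subgroup.closure_induction with
  | mem x hx =>
    obtain ⟨p, rfl⟩ := hx
    rw [← conj_mul, Orth.conj_refl Q hg, Orth.conj_refl Q hg]
    exact refl_mul_mem_pairs Q (by rw [Orth.Q_act hg]; exact p.1.2) (by rw [Orth.Q_act hg]; exact p.2.2)
  | one => simp
  | mul x y _ _ hx hy => rw [← conj_mul]; exact mul_mem hx hy
  | inv x _ hx => rw [← conj_inv]; exact inv_mem hx

include hf hpol in
theorem even_rank_mul_pairs {k : GL ι F} (hk : k ∈ reflPairs Q) :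
    ∀ {g : GL ι F}, g ∈ isometryGroup F ⇑Q →
      (Even (((g * k : GL ι F) : Matrix ι ι F) - 1).rank ↔ Even ((g : Matrix ι ι F) - 1).rank) := by
  induction hk using Subgroup.closure_induction with
  | mem x hx =>
    obtain ⟨p, rfl⟩ := hx
    intro g hg
    rw [← mul_assoc, even_rank_mul_refl hf Q hpol (mul_mem hg (Orth.refl_mem_iso Q _)) p.2.2,
      even_rank_mul_refl hf Q hpol hg p.1.2, not_not]
  | one => intro g _; rw [mul_one]
  | mul x y hx _ ihx ihy =>
    intro g hg
    rw [← mul_assoc, ihy (mul_mem hg (reflPairs_le Q hx)), ihx hg]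
  | inv x hx ih =>
    intro g hg
    have := ih (mul_mem hg (inv_mem (reflPairs_le Q hx)))
    rw [inv_mul_cancel_right] at this
    exact this.symm

include hf hpol in
theorem rank_sg {u w : ι → F} : Even ((Orth.sg Q u w : Matrix ι ι F) - 1).rank := by
  by_cases h : Q u = 0 ∧ QuadraticMap.polar ⇑Q u w = 0
  swap
  · rw [Orth.sg_of_not Q h]; simp
  by_cases hw : ∃ t : F, w = t • u
  · obtain ⟨t, rfl⟩ := hw
    have := Orth.sg_add_smul Q (w := 0) h.1 (Orth.B_zero_right Q u) t
    rw [zero_add, Orth.sg_zero] at this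
    rw [this]; simp
  push Not at hw
  rcases eq_or_ne u 0 with rfl | hu0
  · rw [show Orth.sg Q 0 w = 1 from gl_ext fun x => by rw [Orth.act_sg Q h.1 h.2, act_one]; simp [Orth.B_zero_left Q]]
    simp
  have hfw : f u w = 0 := by rw [← hpol]; exact h.2
  have key : ∀ x, ((Orth.sg Q u w : Matrix ι ι F) - 1).mulVecLin x = f u x • w - (f w x + Q w * f u x) • u :=
    fun x => by
      rw [Matrix.mulVecLin_apply, Matrix.sub_mulVec, Matrix.one_mulVec, ← act_apply, Orth.act_sg Q h.1 h.2,
        hpol, hpol]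
      abel
  obtain ⟨y, hyu, hyw⟩ := exists_one hf hu0 hw
  obtain ⟨x, hxu⟩ := exists_dual_vec hf hu0
  have hr : LinearMap.range ((Orth.sg Q u w : Matrix ι ι F) - 1).mulVecLin = Submodule.span F (Set.range ![u, w]) := by
    apply le_antisymm
    · rintro _ ⟨z, rfl⟩
      rw [key]
      exact sub_mem (Submodule.smul_mem _ _ (Submodule.subset_span ⟨1, rfl⟩))
        (Submodule.smul_mem _ _ (Submodule.subset_span ⟨0, rfl⟩))
    · rw [Submodule.span_le]
      have hu' : u ∈ LinearMap.range ((Orth.sg Q u w : Matrix ι ι F) - 1).mulVecLin := ⟨y, by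
        rw [key, f_comm hf u y, f_comm hf w y, hyu, hyw, mul_zero, add_zero, zero_smul, one_smul, zero_sub,
          ← neg_one_smul F u, CharTwo.neg_eq, one_smul]⟩
      rintro _ ⟨i, rfl⟩
      fin_cases i
      · exact hu'
      · have : f u x • w = ((Orth.sg Q u w : Matrix ι ι F) - 1).mulVecLin x + (f w x + Q w * f u x) • u := by
          rw [key]; abel
        rw [f_comm hf u x, hxu, one_smul] at this
        show w ∈ LinearMap.range _
        have hm := add_mem (LinearMap.mem_range_self ((Orth.sg Q u w : Matrix ι ι F) - 1).mulVecLin x)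
          (Submodule.smul_mem _ (f w x + Q w * 1) hu')
        exact Eq.mpr (congrArg (· ∈ LinearMap.range ((Orth.sg Q u w : Matrix ι ι F) - 1).mulVecLin) this) hm
  have hli : LinearIndependent F ![u, w] := by
    rw [LinearIndependent.pair_iff' hu0]
    exact fun t e => hw t e.symm
  rw [Matrix.rank, hr, finrank_span_eq_card hli, Fintype.card_fin]
  exact even_two

variable [Finite F] {L : Subgroup (GL ι F)} (hS : Setup hf L) (hsing : ∀ p, Pt hf L p → Q p = 0)
include hf hpol hS hsing

omit [Finite F] in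
theorem le_isometry : L ≤ isometryGroup F ⇑Q := fun g hg => by
  rw [Orth.mem_iso]
  let W : Submodule F (ι → F) :=
    { carrier := {x | Q (act g x) = Q x}
      add_mem' := fun {x y} hx hy => by
        show Q (act g (x + y)) = Q (x + y)
        rw [map_add, Orth.Q_add Q, Orth.Q_add Q, hpol, hpol, mem_isoGroup.1 (hS.le hg),
          show Q (act g x) = Q x from hx, show Q (act g y) = Q y from hy]
      zero_mem' := by show Q (act g 0) = Q 0; rw [map_zero]
      smul_mem' := fun c x hx => by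
        show Q (act g (c • x)) = Q (c • x)
        rw [map_smul, Orth.Q_smul Q, Orth.Q_smul Q, show Q (act g x) = Q x from hx] }
  intro x
  rcases hS.irred (Submodule.span F {p | Pt hf L p}) (fun g hg w hw => by
    induction hw using Submodule.span_induction with
    | mem y hy => exact Submodule.subset_span (Pt.act hf hS hy hg)
    | zero => rw [map_zero]; exact zero_mem _
    | add y z _ _ hy hz => rw [map_add]; exact add_mem hy hz
    | smul c y _ hy => rw [map_smul]; exact Submodule.smul_mem _ _ hy) with h | h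
  · obtain ⟨a, ha⟩ := hS.exists_pt
    exact absurd ((Submodule.eq_bot_iff _).1 h a (Submodule.subset_span ha)) ha.1
  · have hle : Submodule.span F {p | Pt hf L p} ≤ W := Submodule.span_le.2 fun p hp => by
      show Q (act g p) = Q p
      rw [hsing p hp, hsing _ (Pt.act hf hS hp hg)]
    exact hle (h ▸ Submodule.mem_top : x ∈ Submodule.span F {p | Pt hf L p})

omit [Finite F] in
theorem el_value {p v : ι → F} (hp : Pt hf L p) (hv : f p v = 0) {c : F} (h : el hf p v c ∈ L) : c = Q v := by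
  obtain ⟨e, he⟩ := exists_dual_vec hf hp.1
  have h1 := Orth.Q_act (le_isometry hf Q hpol hS hsing h) e
  rw [act_el hf hv, he] at h1
  simp only [Orth.Q_add Q, Orth.Q_smul Q, Orth.B_add_left Q, Orth.B_smul_left Q, Orth.B_smul_right Q, hpol,
    f_add_left hf, f_smul_left hf, f_smul_right hf, f_self hf, hsing p hp, hv, f_eq_zero_symm hf hv, he,
    f_comm hf v p] at h1
  linear_combination h1 - (Q v + f e v) * CharTwo.two_eq_zero (R := F)

omit [Finite F] in
theorem el_Q_mem {p v : ι → F} (hp : Pt hf L p) (hv : f p v = 0) : el hf p v (Q v) ∈ L := by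
  obtain ⟨c, hc⟩ := hp.2 v hv
  rwa [el_value hf Q hpol hS hsing hp hv hc] at hc

omit [Finite F] in
theorem pt_of_singular {x : ι → F} (hx : x ≠ 0) (hQx : Q x = 0) : Pt hf L x := by
  obtain ⟨a₀, ha₀⟩ := hS.exists_pt
  obtain ⟨p, hp, hpx⟩ := exists_ne hf hS ha₀ ha₀.1 (fun g hg y hy => Pt.act hf hS hy hg) hx
  obtain ⟨q, hq, hpq⟩ := exists_partner hf hS hp
  obtain ⟨y, hy⟩ : ∃ y, y = (f p x)⁻¹ • x := ⟨_, rfl⟩
  have hpy : f p y = 1 := by rw [hy, f_smul_right hf, inv_mul_cancel₀ hpx]
  obtain ⟨w, hw⟩ : ∃ w, w = y + q + f y q • p := ⟨_, rfl⟩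
  have hpw : f p w = 0 := by
    rw [hw, f_add_right hf, f_add_right hf, f_smul_right hf, f_self hf, hpy, hpq, CharTwo.add_self_eq_zero,
      mul_zero, add_zero]
  have hqw : f q w = 0 := by
    rw [hw, f_add_right hf, f_add_right hf, f_smul_right hf, f_self hf, f_comm hf q p, hpq, f_comm hf q y,
      mul_one, add_zero, CharTwo.add_self_eq_zero]
  have hQy : Q y = 0 := by rw [hy, Orth.Q_smul Q, hQx, mul_zero]
  have hQw : Q w = f y q := by
    rw [hw]
    simp only [Orth.Q_add Q, Orth.Q_smul Q, Orth.B_add_left Q, Orth.B_smul_right Q, hpol, f_smul_right hf,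
      hQy, hsing p hp, hsing q hq, f_comm hf y p, hpy, f_comm hf q p, hpq]
    linear_combination (f y q) * CharTwo.two_eq_zero (R := F)
  have h1 := Pt.smul hf (Pt.act hf hS hq (el_Q_mem hf Q hpol hS hsing hp hpw)) hpx
  rwa [show act (el hf p w (Q w)) q = y by
    rw [act_el hf hpw, f_comm hf q p, hpq, hqw, hQw, hw]
    match_scalars <;> ring_nf <;> simp [CharTwo.two_eq_zero],
    hy, smul_smul, mul_inv_cancel₀ hpx, one_smul] at h1

omit [Finite F] in
theorem sgGroup_le : Orth.sgGroup Q ≤ L := by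
  rw [Orth.sgGroup, Subgroup.closure_le]
  rintro _ ⟨⟨u, w⟩, rfl⟩
  show Orth.sg Q u w ∈ L
  by_cases h : Q u = 0 ∧ QuadraticMap.polar ⇑Q u w = 0
  swap
  · rw [Orth.sg_of_not Q h]; exact one_mem _
  rcases eq_or_ne u 0 with rfl | hu0
  · rw [show Orth.sg Q 0 w = 1 from gl_ext fun x => by rw [Orth.act_sg Q h.1 h.2, act_one]; simp [Orth.B_zero_left Q]]
    exact one_mem _
  have hfw : f u w = 0 := by rw [← hpol]; exact h.2
  have h1 := el_Q_mem hf Q hpol hS hsing (pt_of_singular hf Q hpol hS hsing hu0 h.1) hfw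
  convert h1 using 1
  apply gl_ext; intro x
  rw [Orth.act_sg Q h.1 h.2, act_el hf hfw, hpol, hpol, f_comm hf u x, f_comm hf w x]
  match_scalars <;> ring_nf <;> simp [CharTwo.neg_eq, CharTwo.sub_eq_add, CharTwo.two_eq_zero]

/-- the isometries of value one are one class under the Siegel group -/
theorem exists_move {a b : ι → F} (ha : Pt hf L a) (hb : Pt hf L b) (hab : f a b = 1) {x : ι → F} (hx : Q x = 1) :
    ∃ s ∈ Orth.sgGroup Q, act s x = a + b := by
  have hQ := polar_nondegenerate hf Q hpol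
  have hQa := hsing a ha
  have hQb := hsing b hb
  obtain ⟨s, hs, α, β, hsx⟩ := Orth.exists_move_plane hQ hQa hQb (by rw [hpol, hab]) (a := x)
    (fun e => by rw [e, map_zero] at hx; exact zero_ne_one hx)
  have hba : f b a = 1 := by rw [f_comm hf, hab]
  have hαβ : α * β = 1 := by
    rw [← hx, ← Orth.Q_act (Orth.sgGroup_le_iso hs) x, hsx]
    simp only [Orth.Q_add Q, Orth.Q_smul Q, hpol, f_smul_left hf, f_smul_right hf, hQa, hQb, hab]
    ring
  have hβ : β ≠ 0 := fun e => by rw [e, mul_zero] at hαβ; exact zero_ne_one hαβ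
  obtain ⟨w, hw0, haw, hbw⟩ := exists_perp_pair hf (a := a) (b := b) hS.dim
  have hind : ∀ r t : F, w ≠ r • a + t • b := fun r t e => by
    have h1 := congrArg (f a) e
    have h2 := congrArg (f b) e
    rw [haw, f_add_right hf, f_smul_right hf, f_smul_right hf, f_self hf, hab] at h1
    rw [hbw, f_add_right hf, f_smul_right hf, f_smul_right hf, f_self hf, hba] at h2
    simp at h1 h2
    rw [← h1, ← h2] at e
    simp at e
    exact hw0 e
  obtain ⟨v, hva, hvb, hvw⟩ := exists_one_two hf ha.1 (fun t e => by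
    have := congrArg (f a) e
    rw [hab, f_smul_right hf, f_self hf, mul_zero] at this
    exact one_ne_zero this) hind
  obtain ⟨z₀, hz₀, haz₀, hbz₀⟩ : ∃ z, Q z ≠ 0 ∧ f a z = 0 ∧ f b z = 0 := by
    by_contra hne
    push Not at hne
    have h1 : ∀ z, f a z = 0 → f b z = 0 → Q z = 0 := fun z h1 h2 => by
      by_contra h; exact hne z h h1 h2
    have := Orth.Q_add Q w v
    rw [h1 _ (by rw [f_add_right hf, haw, f_eq_zero_symm hf hva, add_zero])
      (by rw [f_add_right hf, hbw, f_eq_zero_symm hf hvb, add_zero]), h1 w haw hbw,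
      h1 v (f_eq_zero_symm hf hva) (f_eq_zero_symm hf hvb), hpol, f_comm hf, hvw] at this
    simp at this
  obtain ⟨l, hl⟩ := exists_sq ((1 + α) / β / Q z₀)
  obtain ⟨z, hz⟩ : ∃ z, z = l • z₀ := ⟨_, rfl⟩
  have hQz : Q z = (1 + α) / β := by
    rw [hz, Orth.Q_smul Q, ← pow_two, hl, div_mul_cancel₀ _ hz₀]
  have haz : f a z = 0 := by rw [hz, f_smul_right hf, haz₀, mul_zero]
  have hbz : f b z = 0 := by rw [hz, f_smul_right hf, hbz₀, mul_zero]
  have hbz' : QuadraticMap.polar ⇑Q b (β • z) = 0 := by rw [hpol, f_smul_right hf, hbz, mul_zero]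
  refine ⟨Orth.sg Q b (β • z) * Orth.sg Q a z * s,
    mul_mem (mul_mem (Orth.sg_mem_sgGroup _ _) (Orth.sg_mem_sgGroup _ _)) hs, ?_⟩
  rw [act_mul, act_mul, hsx, Orth.act_sg Q hQa (by rw [hpol, haz]), Orth.act_sg Q hQb hbz']
  simp only [hpol, f_add_right hf, f_sub_right hf, f_smul_right hf, f_smul_left hf, f_self hf, hab, hba,
    haz, hbz, f_eq_zero_symm hf haz, f_eq_zero_symm hf hbz, Orth.Q_smul Q, hQz]
  have hα : α = β⁻¹ := eq_inv_of_mul_eq_one_left hαβ
  subst hα
  match_scalars <;> field_simp <;> ring_nf <;> simp [CharTwo.neg_eq, CharTwo.two_eq_zero]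

/-- one reflection and the Siegel group give all isometries -/
theorem mem_sg_or {a b : ι → F} (ha : Pt hf L a) (hb : Pt hf L b) (hab : f a b = 1) {g : GL ι F}
    (hg : g ∈ isometryGroup F ⇑Q) : g ∈ Orth.sgGroup Q ∨ Orth.refl Q (a + b) * g ∈ Orth.sgGroup Q := by
  obtain ⟨r, hr⟩ : ∃ r, r = Orth.refl Q (a + b) := ⟨_, rfl⟩
  rw [← hr]
  have hriso : r ∈ isometryGroup F ⇑Q := hr ▸ Orth.refl_mem_iso Q _
  have hrr : r * r = 1 := by rw [hr]; exact Orth.refl_mul_self Q _
  have hri : r⁻¹ = r := by rw [hr]; exact Orth.refl_inv Q _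
  have hconj : ∀ s ∈ Orth.sgGroup Q, r * s * r ∈ Orth.sgGroup Q := fun s hs => by
    have := Orth.conj_mem_sgGroup hriso hs
    rwa [hri] at this
  let K : Subgroup (GL ι F) :=
    { carrier := {g | g ∈ Orth.sgGroup Q ∨ r * g ∈ Orth.sgGroup Q}
      one_mem' := Or.inl (one_mem _)
      inv_mem' := fun {x} hx => by
        rcases hx with hx | hx
        · exact Or.inl (inv_mem hx)
        · refine Or.inr ?_
          have := hconj _ (inv_mem hx)
          rwa [mul_inv_rev, hri, show r * (x⁻¹ * r) * r = r * x⁻¹ * (r * r) by group, hrr, mul_one] at this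
      mul_mem' := fun {x y} hx hy => by
        rcases hx with hx | hx <;> rcases hy with hy | hy
        · exact Or.inl (mul_mem hx hy)
        · refine Or.inr ?_
          have := mul_mem (hconj x hx) hy
          rwa [show r * x * r * (r * y) = r * x * (r * r) * y by group, hrr, mul_one, mul_assoc] at this
        · refine Or.inr ?_
          rw [← mul_assoc]
          exact mul_mem hx hy
        · refine Or.inl ?_
          have := mul_mem (hconj _ hx) hy
          rwa [show r * (r * x) * r * (r * y) = (r * r) * x * (r * r) * y by group, hrr, one_mul, mul_one] at this }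
  suffices h : Orth.sgGroup Q ⊔ Subgroup.closure (Set.range (Orth.refl Q)) ≤ K from
    h (Orth.mem_closure_sg_refl (polar_nondegenerate hf Q hpol) hg)
  refine sup_le (fun s hs => Or.inl hs) ((Subgroup.closure_le K).2 ?_)
  rintro _ ⟨x, rfl⟩
  rcases eq_or_ne (Q x) 0 with hx | hx
  · rw [Orth.refl_of_singular Q hx]; exact Or.inl (one_mem _)
  obtain ⟨l, hl⟩ := exists_sq (Q x)⁻¹
  have hl0 : l ≠ 0 := fun e => by rw [e, zero_pow two_ne_zero] at hl; exact inv_ne_zero hx hl.symm
  obtain ⟨s, hs, hsx⟩ := exists_move hf Q hpol hS hsing ha hb hab (x := l • x)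
    (by rw [Orth.Q_smul Q, ← pow_two, hl, inv_mul_cancel₀ hx])
  refine Or.inr ?_
  have e := Orth.conj_refl Q (Orth.sgGroup_le_iso hs) (l • x)
  rw [hsx, ← hr, refl_smul hf Q hpol hl0] at e
  have := mul_mem hs (Orth.conj_mem_sgGroup (Orth.refl_mem_iso Q x) (inv_mem hs))
  rw [Orth.refl_inv Q] at this
  rwa [← e, show s * Orth.refl Q x * s⁻¹ * Orth.refl Q x = s * (Orth.refl Q x * s⁻¹ * Orth.refl Q x) by group]

omit [Finite F] in
/-- singular vectors are moved to each other by reflections -/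
theorem exists_refl_move (h2 : ∀ t : F, t ≠ 0 → t = 1) {u u₀ : ι → F} (hu : u ≠ 0) (hQu : Q u = 0)
    (hu₀ : u₀ ≠ 0) (hQu₀ : Q u₀ = 0) :
    ∃ r ∈ Subgroup.closure (Set.range (Orth.refl Q)), act r u₀ = u := by
  have step : ∀ x y : ι → F, Q x = 0 → Q y = 0 → f x y = 1 →
      act (Orth.refl Q (x + y)) x = y := fun x y hx hy hxy => by
    have hxy1 : Q (x + y) = 1 := by rw [Orth.Q_add Q, hx, hy, hpol, hxy]; ring
    rw [Orth.act_refl Q (by rw [hxy1]; exact one_ne_zero), hxy1, hpol, f_add_left hf, f_self hf,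
      f_comm hf y x, hxy, sub_eq_add_neg, ← neg_smul, CharTwo.neg_eq]
    simp only [inv_one, zero_add, mul_one, one_smul]
    rw [← add_assoc, vadd_self, zero_add]
  obtain ⟨b, hb, hub⟩ := exists_partner hf hS (pt_of_singular hf Q hpol hS hsing hu₀ hQu₀)
  have hQb := hsing b hb
  by_cases h : f b u = 0
  · by_cases h' : f u₀ u = 0
    · obtain ⟨v, hv1, hv2, hv3⟩ := exists_one_two hf hu₀ (fun t e => by
        have := congrArg (f u₀) e
        rw [hub, f_smul_right hf, f_self hf, mul_zero] at this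
        exact one_ne_zero this) (u := u) (fun r t e => by
        have h1 := congrArg (f u₀) e
        have h3 := congrArg (f b) e
        rw [h', f_add_right hf, f_smul_right hf, f_smul_right hf, f_self hf, hub] at h1
        rw [h, f_add_right hf, f_smul_right hf, f_smul_right hf, f_self hf, f_comm hf b u₀, hub] at h3
        simp at h1 h3
        rw [← h1, ← h3] at e
        simp at e
        exact hu e)
      obtain ⟨z, hz⟩ : ∃ z, z = b + v + Q v • u₀ := ⟨_, rfl⟩
      have hQz : Q z = 0 := by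
        rw [hz]
        simp only [Orth.Q_add Q, Orth.Q_smul Q, Orth.B_add_left Q, Orth.B_smul_right Q, hpol, f_smul_right hf,
          hQb, hQu₀, f_comm hf b u₀, hub, f_comm hf b v, hv2, hv1]
        linear_combination (Q v) * CharTwo.two_eq_zero (R := F)
      have h1 : f u₀ z = 1 := by
        rw [hz, f_add_right hf, f_add_right hf, hub, f_smul_right hf, f_self hf, f_comm hf u₀ v, hv1]; ring
      have h3 : f z u = 1 := by
        rw [hz, f_add_left hf, f_add_left hf, h, hv3, f_smul_left hf, h']; ring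
      exact ⟨Orth.refl Q (z + u) * Orth.refl Q (u₀ + z),
        mul_mem (Subgroup.subset_closure ⟨_, rfl⟩) (Subgroup.subset_closure ⟨_, rfl⟩),
        by rw [act_mul, step _ _ hQu₀ hQz h1, step _ _ hQz hQu h3]⟩
    · exact ⟨_, Subgroup.subset_closure ⟨_, rfl⟩, step _ _ hQu₀ hQu (h2 _ h')⟩
  · exact ⟨Orth.refl Q (b + u) * Orth.refl Q (u₀ + b),
      mul_mem (Subgroup.subset_closure ⟨_, rfl⟩) (Subgroup.subset_closure ⟨_, rfl⟩),
      by rw [act_mul, step _ _ hQu₀ hQb hub, step _ _ hQb hQu (h2 _ h)]⟩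

omit [Finite F] in
/-- over two elements in dimension four, the Siegel group is even products of reflections up to one element -/
theorem exists_exceptional (h2 : ∀ t : F, t ≠ 0 → t = 1) (hι : Fintype.card ι = 4) :
    ∃ e ∈ Orth.sgGroup Q, e * e = 1 ∧ Even ((e : Matrix ι ι F) - 1).rank ∧
      ∀ s ∈ Orth.sgGroup Q, s ∈ reflPairs Q ∨ e * s ∈ reflPairs Q := by
  have hQ := polar_nondegenerate hf Q hpol
  -- an element with a non-singular second vector is a product of two reflections
  have hgen : ∀ u w : ι → F, Q u = 0 → QuadraticMap.polar ⇑Q u w = 0 → Q w ≠ 0 →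
      Orth.sg Q u w ∈ reflPairs Q := by
    intro u w hu huw hw
    have hfw : f u w = 0 := by rw [← hpol]; exact huw
    have hQ' : Q (w + Q w • u) = Q w := by
      rw [Orth.Q_add Q, Orth.Q_smul Q, hu, hpol, f_smul_right hf, f_eq_zero_symm hf hfw]; ring
    have e : Orth.sg Q u w = Orth.refl Q w * Orth.refl Q (w + Q w • u) := by
      apply gl_ext; intro x
      rw [act_mul, Orth.act_sg Q hu huw,
        Orth.act_refl Q (a := w + Q w • u) (by rw [hQ']; exact hw), Orth.act_refl Q hw, hQ']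
      simp only [hpol, f_add_left hf, f_smul_left hf, f_sub_right hf, f_smul_right hf, f_add_right hf, f_self hf,
        f_eq_zero_symm hf hfw]
      match_scalars <;> field_simp <;> ring_nf <;> simp [CharTwo.two_eq_zero, CharTwo.neg_eq]
    rw [e]
    exact refl_mul_mem_pairs Q hw (by rw [hQ']; exact hw)
  have htriv : ∀ u w : ι → F, ¬ (u ≠ 0 ∧ Q u = 0 ∧ QuadraticMap.polar ⇑Q u w = 0 ∧ ∀ t : F, w ≠ t • u) →
      Orth.sg Q u w = 1 := by
    intro u w h
    by_cases h0 : Q u = 0 ∧ QuadraticMap.polar ⇑Q u w = 0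
    swap
    · exact Orth.sg_of_not Q h0
    rcases eq_or_ne u 0 with rfl | hu0
    · exact gl_ext fun x => by rw [Orth.act_sg Q h0.1 h0.2, act_one]; simp [Orth.B_zero_left Q]
    push Not at h
    obtain ⟨t, rfl⟩ := h hu0 h0.1 h0.2
    have := Orth.sg_add_smul Q (w := 0) h0.1 (Orth.B_zero_right Q u) t
    rwa [zero_add, Orth.sg_zero] at this
  by_cases hex : ∃ u w : ι → F, u ≠ 0 ∧ Q u = 0 ∧ Q w = 0 ∧ f u w = 0 ∧ ∀ t : F, w ≠ t • u
  swap
  · refine ⟨1, one_mem _, one_mul 1, by simp, fun s hs => Or.inl ?_⟩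
    refine (Subgroup.closure_le _).2 ?_ hs
    rintro _ ⟨⟨u, w⟩, rfl⟩
    show Orth.sg Q u w ∈ reflPairs Q
    by_cases h : u ≠ 0 ∧ Q u = 0 ∧ QuadraticMap.polar ⇑Q u w = 0 ∧ ∀ t : F, w ≠ t • u
    · obtain ⟨h1, h3, h4, h5⟩ := h
      exact hgen u w h3 h4 fun hw => hex ⟨u, w, h1, h3, hw, by rw [← hpol]; exact h4, h5⟩
    · rw [htriv u w h]; exact one_mem _
  obtain ⟨u₀, w₀, hu₀, hQu₀, hQw₀, huw₀, hind₀⟩ := hex
  obtain ⟨e, he⟩ : ∃ e, e = Orth.sg Q u₀ w₀ := ⟨_, rfl⟩
  have hpw : QuadraticMap.polar ⇑Q u₀ w₀ = 0 := by rw [hpol, huw₀]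
  have hee : e * e = 1 := by rw [he, Orth.sg_add Q hQu₀ hpw hpw, vadd_self, Orth.sg_zero]
  have hei : e⁻¹ = e := inv_eq_of_mul_eq_one_right hee
  have heiso : e ∈ isometryGroup F ⇑Q := he ▸ Orth.sg_mem_iso Q _ _
  have hriso : Subgroup.closure (Set.range (Orth.refl Q)) ≤ isometryGroup F ⇑Q := by
    rw [Subgroup.closure_le]; rintro _ ⟨x, rfl⟩; exact Orth.refl_mem_iso Q x
  have hcomm : ∀ r ∈ Subgroup.closure (Set.range (Orth.refl Q)), e * r * e * r⁻¹ ∈ reflPairs Q := by
    intro r hr
    induction hr using Subgroup.closure_induction with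
    | mem x hx =>
      obtain ⟨v, rfl⟩ := hx
      rcases eq_or_ne (Q v) 0 with hv | hv
      · rw [Orth.refl_of_singular Q hv]
        simp [hee]
      · have := Orth.conj_refl Q heiso v
        rw [hei] at this
        rw [this, Orth.refl_inv Q]
        exact refl_mul_mem_pairs Q (by rwa [Orth.Q_act heiso]) hv
    | one => simp [hee]
    | mul x y hx hy ihx ihy =>
      have := mul_mem ihx (conj_mem_pairs Q (hriso hx) ihy)
      rwa [show e * x * e * x⁻¹ * (x * (e * y * e * y⁻¹) * x⁻¹) = e * x * (e * e) * y * e * (x * y)⁻¹ by group,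
        hee, mul_one, show e * x * y = e * (x * y) by group] at this
    | inv x hx ih =>
      have := conj_mem_pairs Q (inv_mem (hriso hx)) (inv_mem ih)
      rwa [show x⁻¹ * (e * x * e * x⁻¹)⁻¹ * x⁻¹⁻¹ = e⁻¹ * x⁻¹ * e⁻¹ * x⁻¹⁻¹ by group, hei] at this
  let K : Subgroup (GL ι F) :=
    { carrier := {g | g ∈ reflPairs Q ∨ e * g ∈ reflPairs Q}
      one_mem' := Or.inl (one_mem _)
      inv_mem' := fun {x} hx => by
        rcases hx with hx | hx
        · exact Or.inl (inv_mem hx)
        · refine Or.inr ?_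
          have := conj_mem_pairs Q heiso (inv_mem hx)
          rwa [mul_inv_rev, hei, show e * (x⁻¹ * e) * e = e * x⁻¹ * (e * e) by group, hee, mul_one] at this
      mul_mem' := fun {x y} hx hy => by
        rcases hx with hx | hx <;> rcases hy with hy | hy
        · exact Or.inl (mul_mem hx hy)
        · refine Or.inr ?_
          have := mul_mem (conj_mem_pairs Q heiso hx) hy
          rwa [hei, show e * x * e * (e * y) = e * x * (e * e) * y by group, hee, mul_one, mul_assoc] at this
        · refine Or.inr ?_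
          rw [← mul_assoc]
          exact mul_mem hx hy
        · refine Or.inl ?_
          have := mul_mem (conj_mem_pairs Q heiso hx) hy
          rwa [hei, show e * (e * x) * e * (e * y) = (e * e) * x * (e * e) * y by group, hee, one_mul,
            mul_one] at this }
  refine ⟨e, he ▸ Orth.sg_mem_sgGroup _ _, hee, he ▸ rank_sg hf Q hpol, fun s hs => ?_⟩
  show s ∈ K
  refine (Subgroup.closure_le _).2 ?_ hs
  rintro _ ⟨⟨u, w⟩, rfl⟩
  show Orth.sg Q u w ∈ K
  by_cases h : u ≠ 0 ∧ Q u = 0 ∧ QuadraticMap.polar ⇑Q u w = 0 ∧ ∀ t : F, w ≠ t • u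
  swap
  · rw [htriv u w h]; exact one_mem _
  obtain ⟨hu0, hQu, huw, hind⟩ := h
  rcases eq_or_ne (Q w) 0 with hw | hw
  swap
  · exact Or.inl (hgen u w hQu huw hw)
  refine Or.inr ?_
  -- the element is conjugate to `e`
  obtain ⟨r, hr, hru⟩ := exists_refl_move hf Q hpol hS hsing h2 hu0 hQu hu₀ hQu₀
  obtain ⟨w', hw'⟩ : ∃ w', w' = act r⁻¹ w := ⟨_, rfl⟩
  have hriso' := hriso hr
  have hrw : act r w' = w := by rw [hw', act_act_inv]
  have hQw' : Q w' = 0 := by rw [← Orth.Q_act hriso' w', hrw, hw]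
  have huw' : f u₀ w' = 0 := by
    rw [← hpol, ← Orth.B_act hriso', hru, hrw, huw]
  have hind' : ∀ t : F, w' ≠ t • u₀ := fun t ee => hind t (by rw [← hrw, ee, map_smul, hru])
  obtain ⟨r', hr', e'⟩ : ∃ r' ∈ Subgroup.closure (Set.range (Orth.refl Q)), Orth.sg Q u₀ w' = r' * e * r'⁻¹ := by
    by_cases hww : f w₀ w' = 0
    · refine ⟨1, one_mem _, ?_⟩
      rw [one_mul, inv_one, mul_one, he]
      have hsub : Submodule.span F (Set.range ![u₀, w₀]) ≤ Orth.perp Q (Submodule.span F (Set.range ![u₀, w₀])) :=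
        Submodule.span_le.2 (by
          rintro _ ⟨i, rfl⟩
          rw [SetLike.mem_coe, Orth.mem_perp_span]
          rintro _ ⟨j, rfl⟩
          fin_cases i <;> fin_cases j <;> simp [hpol, f_self hf, huw₀, f_eq_zero_symm hf huw₀])
      have hfr : finrank F (Submodule.span F (Set.range ![u₀, w₀])) = 2 := by
        rw [finrank_span_eq_card (by rw [LinearIndependent.pair_iff' hu₀]; exact fun t ee => hind₀ t ee.symm),
          Fintype.card_fin]
      have heq := Submodule.eq_of_le_of_finrank_eq hsub (by rw [Orth.finrank_perp hQ, hfr, hι])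
      have hmem : w' ∈ Submodule.span F (Set.range ![u₀, w₀]) := by
        rw [heq, Orth.mem_perp_span]
        rintro _ ⟨j, rfl⟩
        fin_cases j <;> simp [hpol, huw', hww]
      rw [Submodule.mem_span_range_iff_exists_fun] at hmem
      obtain ⟨c, hc⟩ := hmem
      simp only [Fin.sum_univ_two, Matrix.cons_val_zero, Matrix.cons_val_one] at hc
      rw [h2 (c 1) (fun ee => hind' (c 0) (by rw [← hc, ee, zero_smul, add_zero])), one_smul, add_comm] at hc
      rw [← hc, Orth.sg_add_smul Q hQu₀ hpw]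
    · have h1 := h2 _ hww
      have hQs : Q (w₀ + w') = 1 := by rw [Orth.Q_add Q, hQw₀, hQw', hpol, h1]; ring
      have hne : Q (w₀ + w') ≠ 0 := by rw [hQs]; exact one_ne_zero
      refine ⟨Orth.refl Q (w₀ + w'), Subgroup.subset_closure ⟨_, rfl⟩, ?_⟩
      rw [he, Orth.conj_sg Q (Orth.refl_mem_iso Q _),
        Orth.act_refl_fix Q hne (by rw [hpol, f_add_left hf, f_eq_zero_symm hf huw₀, f_eq_zero_symm hf huw',
          add_zero]), Orth.act_refl Q hne, hQs, hpol, f_add_left hf, f_self hf, f_comm hf w' w₀, h1]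
      congr 1
      rw [sub_eq_add_neg, ← neg_smul, CharTwo.neg_eq]
      simp only [inv_one, zero_add, mul_one, one_smul]
      rw [← add_assoc, vadd_self, zero_add]
  have e1 : Orth.sg Q u w = (r * r') * e * (r * r')⁻¹ := by
    rw [← hru, ← hrw, ← Orth.conj_sg Q hriso', e']; group
  rw [e1, show e * ((r * r') * e * (r * r')⁻¹) = e * (r * r') * e * (r * r')⁻¹ by group]
  exact hcomm _ (mul_mem hr hr')

/-- parity of the rank on the Siegel group -/
theorem parity {a b : ι → F} (ha : Pt hf L a) (hb : Pt hf L b) (hab : f a b = 1) {s : GL ι F}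
    (hs : s ∈ Orth.sgGroup Q) :
    Even ((s : Matrix ι ι F) - 1).rank ∧
      ¬ Even (((Orth.refl Q (a + b) * s : GL ι F) : Matrix ι ι F) - 1).rank := by
  have hQ := polar_nondegenerate hf Q hpol
  have hne : Q (a + b) ≠ 0 := by
    rw [Orth.Q_add Q, hsing a ha, hsing b hb, hpol, hab]; simp
  have hriso := Orth.refl_mem_iso Q (a + b)
  by_cases h2 : (∀ t : F, t ≠ 0 → t = 1) ∧ Fintype.card ι = 4
  · obtain ⟨e, he, hee, her, hall⟩ := exists_exceptional hf Q hpol hS hsing h2.1 h2.2
    have heiso := Orth.sgGroup_le_iso he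
    rcases hall s hs with h | h
    · refine ⟨?_, ?_⟩
      · have := even_rank_mul_pairs hf Q hpol h (one_mem (isometryGroup F ⇑Q))
        rw [one_mul] at this
        rw [this]; simp
      · rw [even_rank_mul_pairs hf Q hpol h hriso]
        exact refl_odd hf Q hpol hne
    · have e1 : s = e * (e * s) := by rw [← mul_assoc, hee, one_mul]
      refine ⟨?_, ?_⟩
      · rw [e1, even_rank_mul_pairs hf Q hpol h heiso]
        exact her
      · rw [e1, ← mul_assoc, even_rank_mul_pairs hf Q hpol h (mul_mem hriso heiso)]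
        have e2 : Orth.refl Q (a + b) * e = e * Orth.refl Q (act e⁻¹ (a + b)) := by
          rw [← Orth.conj_refl Q (inv_mem heiso) (a + b)]; group
        rw [e2, even_rank_mul_refl hf Q hpol heiso (by rwa [Orth.Q_act (inv_mem heiso)])]
        simpa using her
  · haveI := Fintype.ofFinite F
    have h : Fintype.card F ≠ 2 ∨ Fintype.card ι ≠ 4 := by
      by_cases hι : Fintype.card ι = 4
      · refine Or.inl fun hq => h2 ⟨fun t ht => ?_, hι⟩
        have := FiniteField.pow_card_sub_one_eq_one t ht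
        rwa [hq, pow_one] at this
      · exact Or.inr hι
    have hiff := fun g => ClassicalSimple.mem_omega_iff_even_rank Q hQ h g
    obtain ⟨O, hO⟩ : ∃ O : Subgroup ↥(isometryGroup F ⇑Q), O = Omega F ⇑Q := ⟨_, rfl⟩
    rw [← hO] at hiff
    have hmem : ∀ s (hs : s ∈ Orth.sgGroup Q), (⟨s, Orth.sgGroup_le_iso hs⟩ : ↥(isometryGroup F ⇑Q)) ∈ O := by
      intro s hs
      induction hs using Subgroup.closure_induction with
      | mem x hx =>
        obtain ⟨⟨u, w⟩, rfl⟩ := hx
        exact (hiff _).2 (rank_sg hf Q hpol)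
      | one => exact one_mem O
      | mul x y hx hy ihx ihy => exact mul_mem ihx ihy
      | inv x hx ih => exact inv_mem ih
    obtain ⟨s', hs', hs'O⟩ : ∃ s' : ↥(isometryGroup F ⇑Q), (s' : GL ι F) = s ∧ s' ∈ O :=
      ⟨_, rfl, hmem s hs⟩
    obtain ⟨r', hr'⟩ : ∃ r' : ↥(isometryGroup F ⇑Q), (r' : GL ι F) = Orth.refl Q (a + b) :=
      ⟨⟨_, hriso⟩, rfl⟩
    rw [← hs', ← hr', ← Subgroup.coe_mul]
    refine ⟨(hiff s').1 hs'O, fun hev => refl_odd hf Q hpol hne ?_⟩
    rw [← hr']
    exact (hiff r').1 ((Subgroup.mul_mem_cancel_right O hs'O).1 ((hiff (r' * s')).2 hev))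

/-- an overgroup with all good points singular for `Q` -/
theorem eq_or_even : L = isometryGroup F ⇑Q ∨
    ∀ g : GL ι F, g ∈ L ↔ (g ∈ isometryGroup F ⇑Q ∧ Even ((g : Matrix ι ι F) - 1).rank) := by
  obtain ⟨a, ha⟩ := hS.exists_pt
  obtain ⟨b, hb, hab⟩ := exists_partner hf hS ha
  have hle := le_isometry hf Q hpol hS hsing
  have hsg := sgGroup_le hf Q hpol hS hsing
  have hcases := fun g (hg : g ∈ isometryGroup F ⇑Q) => mem_sg_or hf Q hpol hS hsing ha hb hab hg
  have hpar := fun s (hs : s ∈ Orth.sgGroup Q) => parity hf Q hpol hS hsing ha hb hab hs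
  by_cases hr : Orth.refl Q (a + b) ∈ L
  · refine Or.inl (le_antisymm hle fun g hg => ?_)
    rcases hcases g hg with h | h
    · exact hsg h
    · exact (Subgroup.mul_mem_cancel_left L hr).1 (hsg h)
  · refine Or.inr fun g => ⟨fun hg => ⟨hle hg, ?_⟩, fun ⟨hg, hev⟩ => ?_⟩
    · rcases hcases g (hle hg) with h | h
      · exact (hpar g h).1
      · refine absurd ?_ hr
        have := L.mul_mem (hsg h) (L.inv_mem hg)
        rwa [mul_inv_cancel_right] at this
    · rcases hcases g hg with h | h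
      · exact hsg h
      · refine absurd ?_ (hpar _ h).2
        rwa [← mul_assoc, Orth.refl_mul_self Q, one_mul]

end Cfsg.Agent.SympOver
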