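/-
Subgroups of the symmetric group of degree six generated by the elements at two or three points.
-/
import Mathlib
import Cfsg.Agent.S5945

set_option autoImplicit false

namespace Cfsg.Agent.SympOver.Six

open Equiv (Perm swap)

/-- the transposition of the point `a`, `b` or `a + b` -/
def pointSwap : Fin 3 → Perm (Fin 6) := ![swap 0 1, swap 1 2, swap 0 2]

/-- the transposition of the sum of a point and one of the two basis vectors -/
def sumSwap : Fin 3 → Fin 2 → Perm (Fin 6) :=
  ![![swap 2 5, swap 2 3], ![swap 0 5, swap 0 3], ![swap 1 5, swap 1 3]]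

/-- the transposition of a basis vector -/
def baseSwap : Fin 2 → Perm (Fin 6) := ![swap 3 4, swap 4 5]

/-- the element at the point `p` over the basis vector `k` with value `c` -/
def gen (p : Fin 3) (k : Fin 2) (c : Bool) : Perm (Fin 6) :=
  sumSwap p k * (bif c then 1 else pointSwap p) * baseSwap k

/-- evaluation of a word -/
def ev (gs : List (Perm (Fin 6))) (w : List ℕ) : Perm (Fin 6) := (w.map fun i => gs.getD i 1).prod

/-- the test for the orders five, three and eight -/
def check (gs : List (Perm (Fin 6))) (w5 w3 ws wu : List ℕ) : Bool :=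
  let x := ev gs w5
  let y := ev gs w3
  let s := ev gs ws
  let u := ev gs wu
  decide (x ^ 5 = 1) && (decide (x ≠ 1) && (decide (y ^ 3 = 1) && (decide (y ≠ 1) && (decide (s ^ 4 = 1) &&
    (decide (s ^ 2 ≠ 1) && (decide (u ^ 2 = 1) && (decide (u * s * u = s ^ 3) &&
      (decide (u ≠ 1) && (decide (u ≠ s) && (decide (u ≠ s ^ 2) && decide (u ≠ s ^ 3)))))))))))

theorem ev_mem {M : Subgroup (Perm (Fin 6))} {gs : List (Perm (Fin 6))} (h : ∀ g ∈ gs, g ∈ M) (w : List ℕ) :
    ev gs w ∈ M := by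
  refine list_prod_mem fun x hx => ?_
  obtain ⟨i, -, rfl⟩ := List.mem_map.1 hx
  rw [List.getD_eq_getElem?_getD]
  cases hgi : gs[i]? with
  | none => exact one_mem M
  | some g => exact h g (List.mem_of_getElem? hgi)

/-- a dihedral group of order eight -/
theorem eight_dvd {G : Type*} [Group G] [Finite G] {M : Subgroup G} {s u : G} (hs : s ∈ M) (hu : u ∈ M)
    (h4 : s ^ 4 = 1) (h4' : s ^ 2 ≠ 1) (hu2 : u ^ 2 = 1) (hus : u * s * u = s ^ 3) (hu0 : u ≠ 1) (hu1 : u ≠ s)
    (hu4 : u ≠ s ^ 2) (hu3 : u ≠ s ^ 3) : 8 ∣ Nat.card ↥M := by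
  haveI : Fact (Nat.Prime 2) := ⟨Nat.prime_two⟩
  have ho : orderOf s = 4 := orderOf_eq_prime_pow (p := 2) (n := 1) (by simpa using h4') (by simpa using h4)
  have hui : u⁻¹ = u := inv_eq_of_mul_eq_one_right (by rw [← pow_two, hu2])
  have hnot : u ∉ Subgroup.zpowers s := by
    rw [← mem_powers_iff_mem_zpowers, Submonoid.mem_powers_iff]
    rintro ⟨n, rfl⟩
    rw [← pow_mod_orderOf, ho] at hu0 hu1 hu4 hu3
    have : n % 4 < 4 := Nat.mod_lt _ (by norm_num)
    interval_cases n % 4 <;> simp_all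
  have hnorm : Subgroup.zpowers u ≤ Subgroup.normalizer (Subgroup.zpowers s : Set G) := by
    rw [Subgroup.zpowers_le, Subgroup.mem_normalizer_iff]
    have key : ∀ x ∈ Subgroup.zpowers s, u * x * u⁻¹ ∈ Subgroup.zpowers s := by
      rintro x ⟨n, rfl⟩
      show u * s ^ n * u⁻¹ ∈ _
      rw [← conj_zpow, hui, hus]
      exact zpow_mem (pow_mem (Subgroup.mem_zpowers s) 3) n
    intro x
    refine ⟨key x, fun hx => ?_⟩
    have := key _ hx
    rwa [hui, ← mul_assoc, ← mul_assoc, ← pow_two, hu2, one_mul, mul_assoc, ← pow_two, hu2, mul_one] at this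
  have hp : IsPGroup 2 ↥(Subgroup.zpowers u ⊔ Subgroup.zpowers s) := by
    refine IsPGroup.to_sup_of_normal_right' ?_ ?_ hnorm
    · exact IsPGroup.of_card (n := 1) (by
        rw [Nat.card_zpowers, orderOf_eq_prime hu2 hu0, pow_one])
    · exact IsPGroup.of_card (n := 2) (by rw [Nat.card_zpowers, ho]; norm_num)
  obtain ⟨k, hk⟩ := IsPGroup.iff_card.1 hp
  have hlt : Nat.card ↥(Subgroup.zpowers s) < Nat.card ↥(Subgroup.zpowers u ⊔ Subgroup.zpowers s) := by
    refine lt_of_le_of_ne (Nat.le_of_dvd Nat.card_pos (Subgroup.card_dvd_of_le le_sup_right)) fun e => hnot ?_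
    rw [Subgroup.eq_of_le_of_card_ge le_sup_right e.ge]
    exact Subgroup.mem_sup_left (Subgroup.mem_zpowers u)
  rw [Nat.card_zpowers, ho, hk] at hlt
  have hk3 : 3 ≤ k := by
    by_contra hc
    interval_cases k <;> simp at hlt
  refine dvd_trans (hk ▸ (pow_dvd_pow 2 hk3 : 2 ^ 3 ∣ 2 ^ k)) (Subgroup.card_dvd_of_le ?_)
  exact sup_le (Subgroup.zpowers_le.2 hu) (Subgroup.zpowers_le.2 hs)

theorem card_ge_of_check {M : Subgroup (Perm (Fin 6))} {gs : List (Perm (Fin 6))} (h : ∀ g ∈ gs, g ∈ M)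
    {w5 w3 ws wu : List ℕ} (hc : check gs w5 w3 ws wu = true) : 120 ≤ Nat.card ↥M := by
  simp only [check, Bool.and_eq_true, decide_eq_true_eq] at hc
  obtain ⟨h5, h5', h3, h3', h4, h4', hu2, hus, hu0, hu1, hu4, hu3⟩ := hc
  have ord : ∀ {p : ℕ}, p.Prime → ∀ {x : Perm (Fin 6)}, x ∈ M → x ^ p = 1 → x ≠ 1 → p ∣ Nat.card ↥M := by
    intro p hp x hx hxp hx1
    haveI := Fact.mk hp
    have := orderOf_dvd_natCard (⟨x, hx⟩ : ↥M)
    rwa [Subgroup.orderOf_mk, orderOf_eq_prime hxp hx1] at this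
  have d5 := ord (p := 5) (by norm_num) (ev_mem h w5) h5 h5'
  have d3 := ord (p := 3) (by norm_num) (ev_mem h w3) h3 h3'
  have d8 := eight_dvd (ev_mem h ws) (ev_mem h wu) h4 h4' hu2 hus hu0 hu1 hu4 hu3
  have d : 5 * 3 * 8 ∣ Nat.card ↥M :=
    Nat.Coprime.mul_dvd_of_dvd_of_dvd (by norm_num) (Nat.Coprime.mul_dvd_of_dvd_of_dvd (by norm_num) d5 d3) d8
  exact Nat.le_of_dvd Nat.card_pos d

/-- the six elements of a configuration -/
def gens3 (c : Fin 3 → Bool × Bool) : List (Perm (Fin 6)) :=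
  [gen 0 0 (c 0).1, gen 0 1 (c 0).2, gen 1 0 (c 1).1, gen 1 1 (c 1).2, gen 2 0 (c 2).1, gen 2 1 (c 2).2]

/-- the four elements at two points -/
def gens2 (x y : Bool × Bool) : List (Perm (Fin 6)) :=
  [gen 0 0 x.1, gen 0 1 x.2, gen 1 0 y.1, gen 1 1 y.2]

theorem card_ge_two {M : Subgroup (Perm (Fin 6))} : ∀ x y : Bool × Bool, x ≠ y →
    (∀ g ∈ gens2 x y, g ∈ M) → 120 ≤ Nat.card ↥M
  | (false, false), (false, true), _, h => card_ge_of_check h (w5 := [0, 1, 3]) (w3 := [1, 2]) (ws := [1, 3]) (wu := [1]) (by decide +kernel)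
  | (false, false), (true, false), _, h => card_ge_of_check h (w5 := [0, 1, 2]) (w3 := [0, 3]) (ws := [0, 2]) (wu := [0]) (by decide +kernel)
  | (false, false), (true, true), _, h => card_ge_of_check h (w5 := [0, 1, 2]) (w3 := [0, 1, 2, 3]) (ws := [0, 2]) (wu := [0]) (by decide +kernel)
  | (false, true), (false, false), _, h => card_ge_of_check h (w5 := [1, 2, 3]) (w3 := [0, 3]) (ws := [1, 3]) (wu := [1]) (by decide +kernel)
  | (false, true), (true, false), _, h => card_ge_of_check h (w5 := [1, 2]) (w3 := [0, 3]) (ws := [0, 2]) (wu := [0]) (by decide +kernel)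
  | (false, true), (true, true), _, h => card_ge_of_check h (w5 := [1, 2]) (w3 := [1, 3]) (ws := [0, 2]) (wu := [0]) (by decide +kernel)
  | (true, false), (false, false), _, h => card_ge_of_check h (w5 := [0, 2, 3]) (w3 := [1, 2]) (ws := [0, 2]) (wu := [0]) (by decide +kernel)
  | (true, false), (false, true), _, h => card_ge_of_check h (w5 := [0, 3]) (w3 := [1, 2]) (ws := [0, 2]) (wu := [0]) (by decide +kernel)
  | (true, false), (true, true), _, h => card_ge_of_check h (w5 := [0, 3]) (w3 := [0, 2]) (ws := [1, 3]) (wu := [1]) (by decide +kernel)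
  | (true, true), (false, false), _, h => card_ge_of_check h (w5 := [0, 2, 3]) (w3 := [0, 1, 2, 3]) (ws := [0, 2]) (wu := [0]) (by decide +kernel)
  | (true, true), (false, true), _, h => card_ge_of_check h (w5 := [0, 3]) (w3 := [1, 3]) (ws := [0, 2]) (wu := [0]) (by decide +kernel)
  | (true, true), (true, false), _, h => card_ge_of_check h (w5 := [1, 2]) (w3 := [0, 2]) (ws := [1, 3]) (wu := [1]) (by decide +kernel)
  | (false, false), (false, false), hne, _ => absurd rfl hne
  | (false, true), (false, true), hne, _ => absurd rfl hne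
  | (true, false), (true, false), hne, _ => absurd rfl hne
  | (true, true), (true, true), hne, _ => absurd rfl hne

theorem card_ge_three {M : Subgroup (Perm (Fin 6))} : ∀ x : Bool × Bool,
    (∀ g ∈ gens3 (fun _ => x), g ∈ M) → 120 ≤ Nat.card ↥M
  | (false, false), h => card_ge_of_check h (w5 := [0, 1, 2, 5]) (w3 := [0, 3]) (ws := [0, 2, 5]) (wu := [5]) (by decide +kernel)
  | (false, true), h => card_ge_of_check h (w5 := [0, 1, 2, 5]) (w3 := [1, 3]) (ws := [0, 2, 5]) (wu := [5]) (by decide +kernel)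
  | (true, false), h => card_ge_of_check h (w5 := [0, 1, 2, 5]) (w3 := [0, 2]) (ws := [0, 2, 4]) (wu := [2]) (by decide +kernel)
  | (true, true), h => card_ge_of_check h (w5 := [0, 3]) (w3 := [0, 2]) (ws := [0, 2, 4]) (wu := [2]) (by decide +kernel)

/-- the subgroups of order at least one hundred and twenty -/
theorem subgroup_cases {M : Subgroup (Perm (Fin 6))} (h : 120 ≤ Nat.card ↥M) :
    M = ⊤ ∨ M = alternatingGroup (Fin 6) ∨ Nonempty (↥M ≃* Perm (Fin 5)) := by
  classical
  have hmul := M.card_mul_index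
  rw [Nat.card_perm, Nat.card_fin, show Nat.factorial 6 = 720 from rfl] at hmul
  have hle : M.index ≤ 6 := by
    by_contra hc
    have := Nat.mul_le_mul h (Nat.lt_of_not_le hc : 7 ≤ M.index)
    omega
  have hne : M.index ≠ 0 := Subgroup.index_ne_zero_of_finite
  by_cases hcore : M.normalCore = ⊥
  · have hinj : Function.Injective (MulAction.toPermHom (Perm (Fin 6)) (Perm (Fin 6) ⧸ M)) := by
      rw [← MonoidHom.ker_eq_bot_iff, ← Subgroup.normalCore_eq_ker, hcore]
    have h4 := Nat.card_le_card_of_injective _ hinj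
    rw [Nat.card_perm, Nat.card_perm, ← Subgroup.index_eq_card, Nat.card_fin] at h4
    have h6 : M.index = 6 := by
      interval_cases M.index <;> simp [Nat.factorial] at h4 ⊢
    refine Or.inr (Or.inr ?_)
    obtain ⟨φ, hφ⟩ := Cfsg.Agent.S5945.exists_aut h6
    obtain ⟨e⟩ := Cfsg.Agent.S5945.stab_zero_equiv
    have hmap : M.map φ.toMonoidHom = MulAction.stabilizer (Perm (Fin 6)) (0 : Fin 6) := by
      rw [hφ, Subgroup.map_comap_eq_self_of_surjective (f := φ.toMonoidHom) φ.surjective]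
    exact ⟨((φ.subgroupMap M).trans (MulEquiv.subgroupCongr hmap)).trans e⟩
  · have hA : alternatingGroup (Fin 6) ≤ M :=
      (Equiv.Perm.alternatingGroup_le_of_normal (by simp)
        ((Subgroup.nontrivial_iff_ne_bot _).mpr hcore)).trans M.normalCore_le
    have := Subgroup.index_antitone hA
    rw [alternatingGroup.index_eq_two] at this
    rcases (show M.index = 1 ∨ M.index = 2 by omega) with h1 | h2
    · exact Or.inl (Subgroup.index_eq_one.1 h1)
    · exact Or.inr (Or.inl (Equiv.Perm.eq_alternatingGroup_of_index_eq_two h2))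

end Cfsg.Agent.SympOver.Six
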