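/-
Overgroups in the symplectic group of dimension four over the field with two elements.
-/
import Cfsg.Agent.Lib.SympOvergroups.Form
import Cfsg.Agent.Lib.SympOvergroups.SixData
import Cfsg.Agent.S0247

set_option autoImplicit false

namespace Cfsg.Agent.SympOver.Six

open scoped MatrixGroups Matrix
open Cfsg.Agent.MaxCl

/-- the coordinates -/
abbrev I := Fin 2 ⊕ Fin 2

/-- the vector of a transposition -/
def sv (i j : Fin 6) : I → ZMod 2 := fun k => S0247.proj k i + S0247.proj k j

theorem mat_swap' : ∀ i j : Fin 6, i = j ∨ S0247.mat (Equiv.swap i j) =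
    Matrix.of fun k l => (if k = l then 1 else 0) + sv i j k * sv i j l.swap := by
  decide +kernel

theorem mat_swap (i j : Fin 6) (h : i ≠ j) (k l : I) : S0247.mat (Equiv.swap i j) k l =
    (if k = l then 1 else 0) + sv i j k * sv i j l.swap :=
  congrFun (congrFun ((mat_swap' i j).resolve_left h) k) l

theorem exists_sv : ∀ u : I → ZMod 2, u ≠ 0 → ∃ i j : Fin 6, i ≠ j ∧ sv i j = u := by
  decide +kernel

variable {ι : Type} [Fintype ι] [DecidableEq ι] {F : Type*} [Field F] [CharP F 2]
variable {f : (ι → F) → (ι → F) → F} (hf : Cfsg.Geo.IsSymplecticForm f)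

/-- a symplectic frame -/
structure Frame (f : (ι → F) → (ι → F) → F) (a w₁ b w₂ : ι → F) : Prop where
  two : ∀ t : F, t ≠ 0 → t = 1
  card : Fintype.card ι = 4
  hab : f a b = 1
  hww : f w₁ w₂ = 1
  ha1 : f a w₁ = 0
  ha2 : f a w₂ = 0
  hb1 : f b w₁ = 0
  hb2 : f b w₂ = 0

/-- the linear map of a frame -/
def frameMap (a w₁ b w₂ : ι → F) : (I → F) →ₗ[F] (ι → F) where
  toFun x := x (Sum.inl 0) • a + x (Sum.inl 1) • w₁ + x (Sum.inr 0) • b + x (Sum.inr 1) • w₂
  map_add' x y := by simp only [Pi.add_apply]; module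
  map_smul' t x := by simp only [Pi.smul_apply, smul_eq_mul, RingHom.id_apply]; module

variable {a w₁ b w₂ : ι → F}
include hf

theorem frame_form (h : Frame f a w₁ b w₂) (x y : I → F) :
    f (frameMap a w₁ b w₂ x) (frameMap a w₁ b w₂ y) = ∑ k : I, x k * y k.swap := by
  simp only [frameMap, LinearMap.coe_mk, AddHom.coe_mk, f_add_left hf, f_add_right hf, f_smul_left hf,
    f_smul_right hf, f_self hf, f_comm hf b a, f_comm hf w₁ a, f_comm hf w₂ a, f_comm hf w₁ b,
    f_comm hf w₂ b, f_comm hf w₂ w₁, h.hab, h.hww, h.ha1, h.ha2, h.hb1, h.hb2, Fintype.sum_sum_type,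
    Fin.sum_univ_two, Sum.swap_inl, Sum.swap_inr]
  ring

theorem frame_bijective (h : Frame f a w₁ b w₂) : Function.Bijective (frameMap a w₁ b w₂) := by
  have hinj : Function.Injective (frameMap a w₁ b w₂) := by
    rw [injective_iff_map_eq_zero]
    intro x hx
    funext k
    have := frame_form hf h x (Pi.single k.swap 1)
    rw [hx, f_zero_left hf, Finset.sum_eq_single k (fun l _ hl => by
      rw [Pi.single_eq_of_ne (fun e => hl (by simpa using congrArg Sum.swap e)), mul_zero])
      (fun hk => absurd (Finset.mem_univ k) hk), Pi.single_eq_same, mul_one] at this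
    exact this.symm
  refine ⟨hinj, (LinearMap.injective_iff_surjective_of_finrank_eq_finrank ?_).1 hinj⟩
  rw [Module.finrank_pi, Module.finrank_pi, h.card]
  rfl

/-- coordinates in a frame -/
theorem frame_decomp (h : Frame f a w₁ b w₂) (x : ι → F) :
    x = f x b • a + f x w₂ • w₁ + f x a • b + f x w₁ • w₂ := by
  obtain ⟨y, rfl⟩ := (frame_bijective hf h).2 x
  simp only [frameMap, LinearMap.coe_mk, AddHom.coe_mk, f_add_left hf, f_smul_left hf, f_self hf,
    f_comm hf b a, f_comm hf w₁ a, f_comm hf w₂ a, f_comm hf w₁ b, f_comm hf w₂ b, f_comm hf w₂ w₁,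
    h.hab, h.hww, h.ha1, h.ha2, h.hb1, h.hb2, mul_zero, mul_one, zero_add, add_zero]

/-- a pair extends to a frame -/
theorem exists_frame (h2 : ∀ t : F, t ≠ 0 → t = 1) (hι : Fintype.card ι = 4) {a b : ι → F} (hab : f a b = 1) :
    ∃ w₁ w₂, Frame f a w₁ b w₂ := by
  classical
  have ha : a ≠ 0 := fun e => zero_ne_one (by rwa [e, f_zero_left hf] at hab : (0 : F) = 1)
  have hba : f b a = 1 := by rw [f_comm hf, hab]
  obtain ⟨w, hw0, haw, hbw⟩ := exists_perp_pair hf (a := a) (b := b) (by rw [hι])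
  obtain ⟨v, hva, hvb, hvw⟩ := exists_one_two hf ha (c := b) (u := w) (fun t e => by
    have := congrArg (f a) e
    rw [hab, f_smul_right hf, f_self hf, mul_zero] at this
    exact one_ne_zero this) (fun r t e => by
    have h1 := congrArg (f a) e
    have h3 := congrArg (f b) e
    rw [haw, f_add_right hf, f_smul_right hf, f_smul_right hf, f_self hf, hab] at h1
    rw [hbw, f_add_right hf, f_smul_right hf, f_smul_right hf, f_self hf, hba] at h3
    simp at h1 h3
    rw [← h1, ← h3] at e
    simp at e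
    exact hw0 e)
  exact ⟨v, w, h2, hι, hab, hvw, f_eq_zero_symm hf hva, haw, f_eq_zero_symm hf hvb, hbw⟩

/-- the model of a frame -/
theorem exists_model (h : Frame f a w₁ b w₂) :
    ∃ π : Equiv.Perm (Fin 6) →* GL ι F, Function.Injective π ∧ isoGroup f ≤ π.range ∧
      ∀ i j : Fin 6, i ≠ j → π (Equiv.swap i j) =
        stv hf (frameMap a w₁ b w₂ fun k => ZMod.castHom (dvd_refl 2) F (sv i j k)) 1 := by
  obtain ⟨r, hr⟩ : ∃ r : ZMod 2 →+* F, r = ZMod.castHom (dvd_refl 2) F := ⟨_, rfl⟩
  rw [← hr]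
  let T := LinearEquiv.ofBijective (frameMap a w₁ b w₂) (frame_bijective hf h)
  let θ : Matrix I I F →* Matrix ι ι F :=
    { toFun := fun M => LinearMap.toMatrix' (T.toLinearMap ∘ₗ M.mulVecLin ∘ₗ T.symm.toLinearMap)
      map_one' := by
        rw [Matrix.mulVecLin_one, LinearMap.id_comp, LinearEquiv.comp_symm, LinearMap.toMatrix'_id]
      map_mul' := fun M N => by
        rw [← LinearMap.toMatrix'_comp, Matrix.mulVecLin_mul]
        congr 1
        apply LinearMap.ext
        intro x
        simp }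
  let m : Equiv.Perm (Fin 6) →* Matrix I I F :=
    { toFun := fun σ => (S0247.mat σ).map r
      map_one' := by rw [S0247.mat_one]; exact r.mapMatrix.map_one
      map_mul' := fun σ τ => by rw [S0247.mat_mul, Matrix.map_mul] }
  obtain ⟨π, hπ⟩ : ∃ π : Equiv.Perm (Fin 6) →* GL ι F, π = (θ.comp m).toHomUnits := ⟨_, rfl⟩
  have hact : ∀ σ (x : I → F), act (π σ) (T x) = T (((S0247.mat σ).map r) *ᵥ x) := fun σ x => by
    rw [hπ, act_apply]
    show θ (m σ) *ᵥ T x = _
    simp only [θ, m, MonoidHom.coe_mk, OneHom.coe_mk, LinearMap.toMatrix'_mulVec, LinearMap.comp_apply,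
      LinearEquiv.coe_coe, LinearEquiv.symm_apply_apply, Matrix.mulVecLin_apply]
  have hinj : Function.Injective π := by
    rw [injective_iff_map_eq_one]
    intro σ hσ
    apply S0247.mat_injective
    apply Matrix.map_injective r.injective
    show (S0247.mat σ).map r = (1 : Matrix I I (ZMod 2)).map r
    rw [Matrix.map_one r (map_zero r) (map_one r)]
    apply Matrix.toLin'.injective
    apply LinearMap.ext
    intro x
    rw [Matrix.toLin'_apply, Matrix.toLin'_one, LinearMap.id_apply]
    apply T.injective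
    rw [← hact, hσ, act_one]
  have hswap : ∀ i j : Fin 6, i ≠ j → π (Equiv.swap i j) =
      stv hf (frameMap a w₁ b w₂ fun k => r (sv i j k)) 1 := by
    intro i j hij
    apply gl_ext
    intro y
    obtain ⟨x, rfl⟩ := T.surjective y
    rw [hact, act_stv hf, one_mul]
    have e : ((S0247.mat (Equiv.swap i j)).map r) *ᵥ x =
        x + (∑ l : I, x l * r (sv i j l.swap)) • fun k => r (sv i j k) := by
      funext k
      simp only [Matrix.mulVec, dotProduct, Matrix.map_apply, mat_swap i j hij, map_add, map_mul,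
        apply_ite r, map_one, map_zero, add_mul, Finset.sum_add_distrib, ite_mul, one_mul, zero_mul,
        Finset.sum_ite_eq, Finset.mem_univ, if_true, Pi.add_apply, Pi.smul_apply, smul_eq_mul, Finset.sum_mul]
      congr 1
      exact Finset.sum_congr rfl fun l _ => by ring
    rw [e, map_add, map_smul]
    congr 2
    show _ = f (frameMap a w₁ b w₂ x) (frameMap a w₁ b w₂ fun k => r (sv i j k))
    exact (frame_form hf h x fun k => r (sv i j k)).symm
  refine ⟨π, hinj, isoGroup_le_of_full hf _ fun u c => ?_, hswap⟩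
  rcases eq_or_ne c 0 with rfl | hc
  · rw [stv_zero hf]; exact one_mem _
  rcases eq_or_ne u 0 with rfl | hu
  · rw [show stv hf (0 : ι → F) c = 1 from gl_ext fun x => by rw [act_stv hf, act_one]; simp]
    exact one_mem _
  obtain ⟨x, hx⟩ := (frame_bijective hf h).2 u
  have hv : ∀ t : F, ∃ z : ZMod 2, r z = t := fun t => by
    rcases eq_or_ne t 0 with rfl | ht
    · exact ⟨0, map_zero r⟩
    · exact ⟨1, by rw [map_one, h.two t ht]⟩
  choose z hz using fun k => hv (x k)
  obtain ⟨i, j, hij, hsv⟩ := exists_sv z (fun e => hu (by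
    rw [← hx, show x = 0 from funext fun k => by rw [← hz k, e, Pi.zero_apply, map_zero, Pi.zero_apply], map_zero]))
  refine ⟨Equiv.swap i j, ?_⟩
  rw [hswap i j hij, h.two c hc, hsv, show (fun k => r (z k)) = x from funext hz, hx]

variable {L : Subgroup (GL ι F)}

/-- the possible conclusions -/
def Exotic (f : (ι → F) → (ι → F) → F) (L : Subgroup (GL ι F)) : Prop :=
  isoGroup f ≤ L ∨ Nonempty (↥L ≃* ↥(alternatingGroup (Fin 6))) ∨ Nonempty (↥L ≃* Equiv.Perm (Fin 5))

omit hf in
theorem exotic_of_card (hle : L ≤ isoGroup f) {π : Equiv.Perm (Fin 6) →* GL ι F} (hinj : Function.Injective π)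
    (hrange : isoGroup f ≤ π.range) (h : 120 ≤ Nat.card ↥(L.comap π)) : Exotic f L := by
  have hmap : (L.comap π).map π = L := Subgroup.map_comap_eq_self (hle.trans hrange)
  let e : ↥(L.comap π) ≃* ↥L := ((L.comap π).equivMapOfInjective π hinj).trans (MulEquiv.subgroupCongr hmap)
  rcases subgroup_cases h with h1 | h1 | h5
  · refine Or.inl fun g hg => ?_
    obtain ⟨σ, rfl⟩ := hrange hg
    exact (show σ ∈ L.comap π from h1 ▸ Subgroup.mem_top σ)
  · exact Or.inr (Or.inl ⟨e.symm.trans (MulEquiv.subgroupCongr h1)⟩)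
  · obtain ⟨e5⟩ := h5
    exact Or.inr (Or.inr ⟨e.symm.trans e5⟩)

theorem value_cases (h : Frame f a w₁ b w₂) (γ : F) [DecidableEq F] :
    γ = bif decide (γ = 1) then 1 else 0 := by
  by_cases hγ : γ = 1
  · simp [hγ]
  · rcases eq_or_ne γ 0 with rfl | h0
    · simp
    · exact absurd (h.two γ h0) hγ

variable (hS : Setup hf L) (hN : NoTv hf L)
include hS hN

/-- the elements at a point of the frame -/
theorem gen_mem [DecidableEq F] (h : Frame f a w₁ b w₂) {π : Equiv.Perm (Fin 6) →* GL ι F}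
    (hswap : ∀ i j : Fin 6, i ≠ j → π (Equiv.swap i j) =
      stv hf (frameMap a w₁ b w₂ fun k => ZMod.castHom (dvd_refl 2) F (sv i j k)) 1)
    (p : Fin 3) (k : Fin 2) (hp : Pt hf L (![a, b, a + b] p)) :
    gen p k (decide (phi hf L (![a, b, a + b] p) (![w₁, w₂] k) = 1)) ∈ L.comap π := by
  obtain ⟨P, hP⟩ : ∃ P, P = ![a, b, a + b] p := ⟨_, rfl⟩
  obtain ⟨W, hW⟩ : ∃ W, W = ![w₁, w₂] k := ⟨_, rfl⟩
  rw [← hP] at hp ⊢
  rw [← hW]
  have hPW : f P W = 0 := by
    rw [hP, hW]
    fin_cases p <;> fin_cases k <;> simp [f_add_left hf, h.ha1, h.ha2, h.hb1, h.hb2]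
  have e1 : π (pointSwap p) = stv hf P 1 := by
    rw [hP]
    fin_cases p <;>
      (simp only [pointSwap, Matrix.cons_val_zero, Matrix.cons_val_one, Matrix.cons_val, Fin.isValue,
        Fin.zero_eta, Fin.mk_one, Fin.reduceFinMk]
       rw [hswap _ _ (by decide)]
       congr 1
       simp [frameMap, sv, S0247.proj, S0247.emb, CharTwo.two_eq_zero, CharTwo.add_self_eq_zero])
  have e2 : π (baseSwap k) = stv hf W 1 := by
    rw [hW]
    fin_cases k <;>
      (simp only [baseSwap, Matrix.cons_val_zero, Matrix.cons_val_one, Matrix.cons_val, Fin.isValue,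
        Fin.zero_eta, Fin.mk_one, Fin.reduceFinMk]
       rw [hswap _ _ (by decide)]
       congr 1
       simp [frameMap, sv, S0247.proj, S0247.emb, CharTwo.two_eq_zero, CharTwo.add_self_eq_zero])
  have e3 : π (sumSwap p k) = stv hf (P + W) 1 := by
    rw [hP, hW]
    fin_cases p <;> fin_cases k <;>
      (simp only [sumSwap, Matrix.cons_val_zero, Matrix.cons_val_one, Matrix.cons_val, Fin.isValue,
        Fin.zero_eta, Fin.mk_one, Fin.reduceFinMk]
       rw [hswap _ _ (by decide)]
       congr 1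
       simp [frameMap, sv, S0247.proj, S0247.emb, CharTwo.two_eq_zero, CharTwo.add_self_eq_zero]
       try abel)
  have hφ := phi_spec hf (L := L) hp hPW
  show π (gen p k _) ∈ L
  convert hφ using 1
  rw [gen, map_mul, map_mul, e2, e3, el]
  congr 2
  by_cases hv : phi hf L P W = 1
  · simp only [hv, decide_true, cond_true, map_one, CharTwo.add_self_eq_zero, stv_zero hf]
  · have h0 : phi hf L P W = 0 := by
      by_contra h0; exact hv (h.two _ h0)
    simp only [h0, add_zero, zero_ne_one, decide_false, cond_false, e1]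

theorem exotic_two [DecidableEq F] (h : Frame f a w₁ b w₂) (ha : Pt hf L a) (hb : Pt hf L b)
    (hne : phi hf L a w₁ ≠ phi hf L b w₁ ∨ phi hf L a w₂ ≠ phi hf L b w₂) : Exotic f L := by
  obtain ⟨π, hinj, hrange, hswap⟩ := exists_model hf h
  refine exotic_of_card hS.le hinj hrange
    (card_ge_two (decide (phi hf L a w₁ = 1), decide (phi hf L a w₂ = 1))
      (decide (phi hf L b w₁ = 1), decide (phi hf L b w₂ = 1)) (fun e => ?_) fun g hg => ?_)
  · simp only [Prod.mk.injEq] at e
    rcases hne with hne | hne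
    · exact hne (by rw [value_cases hf h (phi hf L a w₁), e.1, ← value_cases hf h (phi hf L b w₁)])
    · exact hne (by rw [value_cases hf h (phi hf L a w₂), e.2, ← value_cases hf h (phi hf L b w₂)])
  · simp only [gens2, List.mem_cons, List.not_mem_nil, or_false] at hg
    rcases hg with rfl | rfl | rfl | rfl
    · exact gen_mem hf hS hN h hswap 0 0 ha
    · exact gen_mem hf hS hN h hswap 0 1 ha
    · exact gen_mem hf hS hN h hswap 1 0 hb
    · exact gen_mem hf hS hN h hswap 1 1 hb

theorem exotic_three [DecidableEq F] (h : Frame f a w₁ b w₂) (ha : Pt hf L a) (hb : Pt hf L b)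
    (hc : Pt hf L (a + b)) : Exotic f L := by
  by_cases hne : phi hf L a w₁ ≠ phi hf L b w₁ ∨ phi hf L a w₂ ≠ phi hf L b w₂
  · exact exotic_two hf hS hN h ha hb hne
  push Not at hne
  by_cases hne' : phi hf L a w₁ ≠ phi hf L (a + b) w₁ ∨ phi hf L a w₂ ≠ phi hf L (a + b) w₂
  · refine exotic_two hf hS hN (b := a + b) ⟨h.two, h.card, ?_, h.hww, h.ha1, h.ha2, ?_, ?_⟩ ha hc hne'
    · rw [f_add_right hf, f_self hf, h.hab, zero_add]
    · rw [f_add_left hf, h.ha1, h.hb1, add_zero]
    · rw [f_add_left hf, h.ha2, h.hb2, add_zero]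
  push Not at hne'
  obtain ⟨π, hinj, hrange, hswap⟩ := exists_model hf h
  refine exotic_of_card hS.le hinj hrange
    (card_ge_three (decide (phi hf L a w₁ = 1), decide (phi hf L a w₂ = 1)) fun g hg => ?_)
  simp only [gens3, List.mem_cons, List.not_mem_nil, or_false] at hg
  rcases hg with rfl | rfl | rfl | rfl | rfl | rfl
  · exact gen_mem hf hS hN h hswap 0 0 ha
  · exact gen_mem hf hS hN h hswap 0 1 ha
  · rw [hne.1]; exact gen_mem hf hS hN h hswap 1 0 hb
  · rw [hne.2]; exact gen_mem hf hS hN h hswap 1 1 hb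
  · rw [hne'.1]; exact gen_mem hf hS hN h hswap 2 0 hc
  · rw [hne'.2]; exact gen_mem hf hS hN h hswap 2 1 hc

variable (h2 : ∀ t : F, t ≠ 0 → t = 1) (hι : Fintype.card ι = 4)
include h2 hι

theorem pair_cases [DecidableEq F] {a b : ι → F} (ha : Pt hf L a) (hb : Pt hf L b) (hab : f a b = 1) :
    Exotic f L ∨ ((∀ x, f a x = 0 → f b x = 0 → phi hf L b x = phi hf L a x) ∧
      (∀ τ : F, Pt hf L (b + τ • a) → τ = 0) ∧ (∀ τ : F, Pt hf L (a + τ • b) → τ = 0)) := by
  obtain ⟨w₁, w₂, h⟩ := exists_frame hf h2 hι hab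
  by_cases hc : Pt hf L (a + b)
  · exact Or.inl (exotic_three hf hS hN h ha hb hc)
  by_cases hne : phi hf L a w₁ ≠ phi hf L b w₁ ∨ phi hf L a w₂ ≠ phi hf L b w₂
  · exact Or.inl (exotic_two hf hS hN h ha hb hne)
  push Not at hne
  refine Or.inr ⟨fun x hax hbx => ?_, fun τ hτ => ?_, fun τ hτ => ?_⟩
  · have e := frame_decomp hf h x
    rw [f_eq_zero_symm hf hax, f_eq_zero_symm hf hbx, zero_smul, zero_smul, zero_add, add_zero] at e
    have hval : ∀ (P : ι → F), Pt hf L P → f P w₁ = 0 → f P w₂ = 0 → phi hf L P x =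
        (if f x w₂ = 1 then phi hf L P w₁ else 0) + (if f x w₁ = 1 then phi hf L P w₂ else 0) +
          f x w₂ * f x w₁ := by
      intro P hP h1 h3
      have one : ∀ (t : F) (w : ι → F), f P w = 0 →
          phi hf L P (t • w) = if t = 1 then phi hf L P w else 0 := fun t w hw => by
        rcases eq_or_ne t 0 with rfl | ht
        · rw [zero_smul, phi_zero hf hN hP, if_neg zero_ne_one]
        · rw [h2 t ht, one_smul, if_pos rfl]
      conv_lhs => rw [e]
      rw [phi_add hf hN hP (by rw [f_smul_right hf, h1, mul_zero]) (by rw [f_smul_right hf, h3, mul_zero]),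
        one _ _ h1, one _ _ h3, f_smul_left hf, f_smul_right hf, h.hww, mul_one]
    rw [hval a ha h.ha1 h.ha2, hval b hb h.hb1 h.hb2, hne.1, hne.2]
  · by_contra h0
    rw [h2 τ h0, one_smul, add_comm] at hτ
    exact hc hτ
  · by_contra h0
    rw [h2 τ h0, one_smul] at hτ
    exact hc hτ

/-- the small case -/
theorem cases_of_two : (∃ Q : QuadraticForm F (ι → F), (∀ u v, QuadraticMap.polar ⇑Q u v = f u v) ∧
    ∀ p, Pt hf L p → Q p = 0) ∨ Exotic f L := by
  classical
  refine or_iff_not_imp_right.2 fun hex => ?_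
  obtain ⟨a, ha⟩ := hS.exists_pt
  obtain ⟨b, hb, hab⟩ := exists_partner hf hS ha
  obtain ⟨heq, htau, htau'⟩ := (pair_cases hf hS hN h2 hι ha hb hab).resolve_left hex
  refine exists_form_of_pair hf hS hN ⟨ha, hb, hab, fun x hx t => ?_, heq, htau, htau', fun x hx h1 h3 => ?_⟩
  · rcases eq_or_ne t 0 with rfl | ht
    · rw [zero_smul, phi_zero hf hN ha]; ring
    · rw [h2 t ht, one_smul]; ring
  by_contra hne
  have hφx : phi hf L a x = 1 := h2 _ hne
  have hba : f b a = 1 := by rw [f_comm hf, hab]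
  obtain ⟨v, hva, hvb, hvx⟩ := exists_one_two hf ha.1 (c := b) (u := x) (fun t e => by
    have := congrArg (f a) e
    rw [hab, f_smul_right hf, f_self hf, mul_zero] at this
    exact one_ne_zero this) (fun r t e => by
    have h4 := congrArg (f a) e
    have h5 := congrArg (f b) e
    rw [h1, f_add_right hf, f_smul_right hf, f_smul_right hf, f_self hf, hab] at h4
    rw [h3, f_add_right hf, f_smul_right hf, f_smul_right hf, f_self hf, hba] at h5
    simp at h4 h5
    rw [← h4, ← h5] at e
    simp at e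
    exact hx.1 e)
  have hav := f_eq_zero_symm hf hva
  obtain ⟨b', hb'⟩ : ∃ b', b' = act (el hf a v (phi hf L a v)) b := ⟨_, rfl⟩
  have hb'P : Pt hf L b' := hb' ▸ Pt.act hf hS hb (phi_spec hf ha hav)
  have eb : b' = b + v + phi hf L a v • a := by
    rw [hb', act_el hf hav, f_eq_zero_symm hf hvb, hba]; module
  have hab' : f a b' = 1 := by
    rw [eb, f_add_right hf, f_add_right hf, f_smul_right hf, f_self hf, hab, hav]; ring
  have hb'x : f b' x = 1 := by
    rw [eb, f_add_left hf, f_add_left hf, f_smul_left hf, h3, hvx, h1]; ring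
  obtain ⟨heq', -, htau''⟩ := (pair_cases hf hS hN h2 hι ha hb'P hab').resolve_left hex
  obtain ⟨z, hz⟩ : ∃ z, z = x + a := ⟨_, rfl⟩
  have haz : f a z = 0 := by rw [hz, f_add_right hf, h1, f_self hf, add_zero]
  have hbz : f b' z = 0 := by
    rw [hz, f_add_right hf, hb'x, f_comm hf b' a, hab', CharTwo.add_self_eq_zero]
  have hval : phi hf L b' z = 1 := by
    rw [heq' z haz hbz, hz, (phi_add_self hf hN ha h1).2, hφx]
  have hP2 := Pt.act hf hS hx (phi_spec hf (L := L) hb'P hbz)
  rw [hval, show act (el hf b' z 1) x = a + (1 : F) • b' by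
    rw [act_el hf hbz, f_comm hf x b', hb'x, hz, f_add_right hf, f_self hf, f_eq_zero_symm hf h1]
    match_scalars <;> ring_nf <;> simp [CharTwo.two_eq_zero]] at hP2
  exact one_ne_zero (htau'' 1 hP2)

end Cfsg.Agent.SympOver.Six
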