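/-
Irreducible overgroups of a large transvection-free subgroup of the radical of a point stabiliser.
-/
import Cfsg.Agent.Lib.SympOvergroups.Form
import Cfsg.Agent.Lib.SympOvergroups.Orth
import Cfsg.Agent.Lib.SympOvergroups.Six

set_option autoImplicit false

namespace Cfsg.Agent.SympOver

open scoped MatrixGroups Matrix
open Cfsg.Agent.MaxCl
open Module (finrank)

variable {ι : Type} [Fintype ι] [DecidableEq ι] {F : Type*} [Field F] [CharP F 2] [Finite F]
variable {f : (ι → F) → (ι → F) → F} (hf : Cfsg.Geo.IsSymplecticForm f)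
variable {L : Subgroup (GL ι F)}
include hf

/-- a large transvection-free subgroup of the radical makes its point good -/
theorem pt_of_large {a : ι → F} (ha : a ≠ 0) {X : Subgroup (GL ι F)} (hXL : X ≤ L)
    (hX : ∀ x ∈ X, ∃ v c, f a v = 0 ∧ x = el hf a v c)
    (hcard : Nat.card ↥X = Nat.card F ^ (Fintype.card ι - 2))
    (hntv : ∀ x ∈ X, ((x : Matrix ι ι F) - 1).rank ≠ 1) : Pt hf L a := by
  haveI := Fintype.ofFinite F
  refine ⟨ha, fun v hv => ?_⟩
  choose vec val hvec hel using hX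
  let K : Submodule F (ι → F) := LinearMap.ker (flin hf.bilinear a)
  have hK : ∀ {x}, f a x = 0 → x ∈ K := fun {x} h =>
    LinearMap.mem_ker.2 (by rw [flin_apply]; exact f_eq_zero_symm hf h)
  let A : Submodule F K := Submodule.comap K.subtype (F ∙ a)
  let Ψ : ↥X → K ⧸ A := fun x => Submodule.Quotient.mk ⟨vec x.1 x.2, hK (hvec x.1 x.2)⟩
  have hinj : Function.Injective Ψ := by
    intro x y hxy
    rw [Submodule.Quotient.eq] at hxy
    obtain ⟨t, ht⟩ := Submodule.mem_span_singleton.1 hxy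
    simp only [Submodule.coe_subtype, AddSubgroupClass.coe_sub] at ht
    have e : vec x.1 x.2 = vec y.1 y.2 + t • a := by rw [ht]; abel
    have hx := hel x.1 x.2
    have hy := hel y.1 y.2
    rw [e, el_add_smul hf (hvec y.1 y.2)] at hx
    have h0 : x.1 * y.1 = stv hf a (val x.1 x.2 + val y.1 y.2) :=
      (congrArg₂ (· * ·) hx hy).trans (by
        rw [el_mul hf (hvec y.1 y.2) (hvec y.1 y.2), vadd_self, f_self hf, add_zero, el_zero hf])
    have h1 : stv hf a (val x.1 x.2 + val y.1 y.2) ∈ X := h0 ▸ X.mul_mem x.2 y.2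
    have h2 : val x.1 x.2 + val y.1 y.2 = 0 := by
      by_contra hne
      exact hntv _ h1 (rank_stv_sub_one hf ha hne)
    exact Subtype.ext (hx.trans (by rw [CharTwo.add_eq_zero.1 h2]; exact hy.symm))
  have hdimK : finrank F K + 1 = Fintype.card ι := by
    have h1 := LinearMap.finrank_range_add_finrank_ker (flin hf.bilinear a)
    have h2 : LinearMap.range (flin hf.bilinear a) = ⊤ := by
      obtain ⟨e, he⟩ := exists_dual_vec hf ha
      refine LinearMap.range_eq_top.2 fun c => ⟨c • e, ?_⟩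
      rw [flin_apply, f_smul_left hf, he, mul_one]
    rw [h2, finrank_top, Module.finrank_self, Module.finrank_pi] at h1
    have h1' : 1 + finrank F K = Fintype.card ι := h1
    omega
  have hA : finrank F A = 1 := by
    have hle : F ∙ a ≤ K := by
      rw [Submodule.span_singleton_le_iff_mem]; exact hK (f_self hf a)
    rw [LinearEquiv.finrank_eq (Submodule.comapSubtypeEquivOfLe hle), finrank_span_singleton ha]
  have hq := Submodule.finrank_quotient_add_finrank A
  haveI : Finite (K ⧸ A) := Finite.of_surjective _ (Submodule.mkQ_surjective A)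
  have hbij : Function.Bijective Ψ := (Nat.bijective_iff_injective_and_card Ψ).2 ⟨hinj, by
    rw [hcard, Module.natCard_eq_pow_finrank (K := F) (V := K ⧸ A)]
    congr 1
    omega⟩
  obtain ⟨x, hx⟩ := hbij.2 (Submodule.Quotient.mk ⟨v, hK hv⟩)
  rw [Submodule.Quotient.eq] at hx
  obtain ⟨t, ht⟩ := Submodule.mem_span_singleton.1 hx
  simp only [Submodule.coe_subtype, AddSubgroupClass.coe_sub] at ht
  refine ⟨val x.1 x.2, ?_⟩
  have hxL := hXL x.2
  rwa [hel x.1 x.2, show vec x.1 x.2 = v + t • a by rw [ht]; abel, el_add_smul hf hv] at hxL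

/-- the overgroups -/
theorem overgroup_cases (hS : Setup hf L) :
    L = isoGroup f ∨
    (∃ Q : QuadraticForm F (ι → F), (∀ u v, QuadraticMap.polar ⇑Q u v = f u v) ∧
      (L = isometryGroup F ⇑Q ∨
        ∀ g : GL ι F, g ∈ L ↔ (g ∈ isometryGroup F ⇑Q ∧ Even ((g : Matrix ι ι F) - 1).rank))) ∨
    ((∀ t : F, t ≠ 0 → t = 1) ∧ Fintype.card ι = 4 ∧
      (Nonempty (↥L ≃* ↥(alternatingGroup (Fin 6))) ∨ Nonempty (↥L ≃* Equiv.Perm (Fin 5)))) := by
  by_cases hN : NoTv hf L
  swap
  · exact Or.inl (le_antisymm hS.le (isoGroup_le_of_tv hf hS hN))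
  have orth : ∀ Q : QuadraticForm F (ι → F), (∀ u v, QuadraticMap.polar ⇑Q u v = f u v) →
      (∀ p, Pt hf L p → Q p = 0) → L = isometryGroup F ⇑Q ∨
        ∀ g : GL ι F, g ∈ L ↔ (g ∈ isometryGroup F ⇑Q ∧ Even ((g : Matrix ι ι F) - 1).rank) :=
    fun Q hpol hsing => eq_or_even hf Q hpol hS hsing
  by_cases h2 : (∀ t : F, t ≠ 0 → t = 1) ∧ Fintype.card ι = 4
  · rcases Six.cases_of_two hf hS hN h2.1 h2.2 with ⟨Q, hpol, hsing⟩ | h | h
    · exact Or.inr (Or.inl ⟨Q, hpol, orth Q hpol hsing⟩)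
    · exact Or.inl (le_antisymm hS.le h)
    · exact Or.inr (Or.inr ⟨h2.1, h2.2, h⟩)
  · have hq : 4 < Fintype.card ι ∨ ∃ t : F, t ≠ 0 ∧ t ≠ 1 := by
      by_cases h4 : Fintype.card ι = 4
      · refine Or.inr ?_
        by_contra hne
        push Not at hne
        exact h2 ⟨hne, h4⟩
      · exact Or.inl (lt_of_le_of_ne hS.dim (Ne.symm h4))
    obtain ⟨Q, hpol, hsing⟩ := exists_form hf hS hN hq
    exact Or.inr (Or.inl ⟨Q, hpol, orth Q hpol hsing⟩)

end Cfsg.Agent.SympOver
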